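import Cfsg.Agent.Lib.Perm.FixityFour.OddPart.Transfer

/-!
# The two configurations of the odd part of the fixity four theorem

Either a central element of order three of a Sylow 3-subgroup has the largest possible set of fixed
points, or some element of order three fixes more points than every central one.
-/

set_option autoImplicit false
set_option linter.style.haveILetI false

namespace CfsgLib.Perm.FixityFour.OddPart

open MulAction Subgroup
open scoped Pointwise

variable {G Ω : Type*} [Group G] [MulAction G Ω]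

/-- No element of order three fixes more than the set `F`. -/
def Full (G : Type*) {Ω : Type*} [Group G] [MulAction G Ω] (F : Set Ω) : Prop :=
  ∀ x : G, orderOf x = 3 → F ⊆ fixedBy Ω x → fixedBy Ω x = F

theorem Full.smul {F : Set Ω} (hF : Full G F) (g : G) : Full G (g • F) := by
  intro x hx hsub
  have h1 : F ⊆ fixedBy Ω (g⁻¹ * x * g⁻¹⁻¹) := by
    rw [fixedBy_conj]
    intro c hc
    rw [Set.mem_smul_set_iff_inv_smul_mem, inv_inv]
    exact hsub (Set.smul_mem_smul_set hc)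
  have ho : orderOf (g⁻¹ * x * g⁻¹⁻¹) = 3 :=
    (orderOf_injective (MulAut.conj g⁻¹).toMonoidHom (MulAut.conj g⁻¹).injective x).trans hx
  have h2 := hF _ ho h1
  rw [fixedBy_conj] at h2
  rw [← h2, smul_smul, mul_inv_cancel, one_smul]

theorem smul_eq_of_mem_fixing {F : Set Ω} {g : G} (hg : g ∈ fixingSubgroup G F) :
    g ∈ stabilizer G F :=
  mem_stabilizer_of_fix ((mem_fixingSubgroup_iff G).1 hg)

theorem pow_three_zmod : ∀ a : Multiplicative (ZMod 3), a ^ 3 = 1 := by decide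

variable [Finite G] [Finite Ω]

/-- A 3-group on at most four points has a kernel of index at most three. -/
theorem card_le_three_mul {F : Set Ω} (hF : Nat.card F ≤ 4) {R : Subgroup G} (hR : IsPGroup 3 R)
    (hRF : R ≤ stabilizer G F) : Nat.card R ≤ 3 * Nat.card ↥(R ⊓ fixingSubgroup G F) := by
  haveI : Fact (Nat.Prime 3) := ⟨Nat.prime_three⟩
  let φ : R →* Equiv.Perm F := (setPerm F).comp (Subgroup.inclusion hRF)
  obtain ⟨i, hi⟩ := (hR.of_surjective φ.rangeRestrict φ.rangeRestrict_surjective).exists_card_eq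
  have h1 : 3 ^ i ∣ 24 := by
    rw [← hi]
    refine (Subgroup.card_subgroup_dvd_card φ.range).trans ?_
    rw [Nat.card_perm]
    exact Nat.factorial_dvd_factorial hF
  have hi1 : i ≤ 1 := by
    by_contra h
    exact absurd ((pow_dvd_pow 3 (show 2 ≤ i by omega)).trans h1) (by norm_num)
  have hker : Nat.card φ.ker = Nat.card ↥(R ⊓ fixingSubgroup G F) := by
    refine Nat.card_congr
      { toFun := fun g => ⟨(g : R), Subgroup.mem_inf.2 ⟨(g : R).2, (mem_fixingSubgroup_iff G).2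
          fun c hc => setPerm_eq_one.1 (MonoidHom.mem_ker.1 g.2) c hc⟩⟩
        invFun := fun g => ⟨⟨g, (Subgroup.mem_inf.1 g.2).1⟩, MonoidHom.mem_ker.2 (setPerm_eq_one.2
          ((mem_fixingSubgroup_iff G).1 (Subgroup.mem_inf.1 g.2).2))⟩
        left_inv := fun g => rfl
        right_inv := fun g => rfl }
  rw [← φ.ker.card_mul_index, Subgroup.index_ker, hi, hker, mul_comm]
  exact Nat.mul_le_mul_right _ ((Nat.pow_le_pow_right (by norm_num) hi1).trans (by norm_num))

/-- A 3-group fixing a full set pointwise and preserving another of its size has order at most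
three. -/
theorem card_le_three {F F' : Set Ω} (hF : Full G F) (hF' : Nat.card F' ≤ 4)
    (hne : ¬ F' ⊆ F) {R : Subgroup G} (hR : IsPGroup 3 R) (hfixF : R ≤ fixingSubgroup G F)
    (hRF' : R ≤ stabilizer G F') : Nat.card R ≤ 3 := by
  haveI : Fact (Nat.Prime 3) := ⟨Nat.prime_three⟩
  obtain ⟨p, hp, hpF⟩ := Set.not_subset.1 hne
  let f : R → F' := fun r => ⟨(r : G) • p, by
    have h := mem_stabilizer_iff.1 (hRF' r.2)
    rw [← h]; exact Set.smul_mem_smul_set hp⟩
  have hinj : Function.Injective f := by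
    intro r r' e
    by_contra hne'
    have hx : ((r : G)⁻¹ * r') ≠ 1 := fun e1 => hne' (Subtype.ext (inv_mul_eq_one.1 e1))
    have hxR : (r : G)⁻¹ * r' ∈ R := mul_mem (inv_mem r.2) r'.2
    obtain ⟨k, hk⟩ := exists_pow_orderOf_three hR hxR hx
    have hsub : F ⊆ fixedBy Ω (((r : G)⁻¹ * r') ^ k) := fun c hc =>
      (mem_fixingSubgroup_iff G).1 (hfixF (pow_mem hxR k)) c hc
    refine hpF (hF _ hk hsub ▸ ?_)
    have hfix : ((r : G)⁻¹ * r') • p = p := by
      rw [mul_smul, ← (show (r : G) • p = (r' : G) • p from congrArg Subtype.val e), inv_smul_smul]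
    exact mem_stabilizer_iff.1 (pow_mem (mem_stabilizer_iff.2 hfix) k)
  obtain ⟨i, hi⟩ := hR.exists_card_eq
  have h4 := (Nat.card_le_card_of_injective f hinj).trans hF'
  rw [hi] at h4 ⊢
  rcases i with _ | _ | i
  · norm_num
  · norm_num
  · exfalso
    have : 3 ^ 2 ≤ 3 ^ (i + 1 + 1) := Nat.pow_le_pow_right (by norm_num) (by omega)
    omega

/-- A nontrivial normal subgroup of a 3-group contains a central element of order three. -/
theorem exists_central {R W : Subgroup G} (hR : IsPGroup 3 R) (hWR : W ≤ R) (hW : W ≠ ⊥)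
    (hn : ∀ r ∈ R, ∀ x ∈ W, r * x * r⁻¹ ∈ W) :
    ∃ c ∈ W, orderOf c = 3 ∧ ∀ r ∈ R, Commute r c := by
  haveI : Fact (Nat.Prime 3) := ⟨Nat.prime_three⟩
  letI : MulAction R W :=
    { smul := fun r x => ⟨r * x * (r : G)⁻¹, hn r r.2 x x.2⟩
      one_smul := fun x => Subtype.ext (by show (1 : G) * x * (1 : G)⁻¹ = x; simp)
      mul_smul := fun r r' x => Subtype.ext (by
        show ((r : G) * r') * x * ((r : G) * r')⁻¹ = r * (r' * x * (r' : G)⁻¹) * (r : G)⁻¹
        group) }
  have hdvd : 3 ∣ Nat.card W := by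
    haveI := (Subgroup.nontrivial_iff_ne_bot W).2 hW
    obtain ⟨k, hk0, hk⟩ := (hR.to_le hWR).nontrivial_iff_card.1 inferInstance
    exact hk ▸ dvd_pow_self 3 (by omega)
  have h1 : (1 : W) ∈ fixedPoints R W := fun r =>
    Subtype.ext (show (r : G) * (1 : G) * (r : G)⁻¹ = 1 by simp)
  obtain ⟨y, hy, hy1⟩ := hR.exists_fixed_point_of_prime_dvd_card_of_fixed_point W hdvd h1
  have hyne : (y : G) ≠ 1 := fun e => hy1 (Subtype.ext e.symm)
  obtain ⟨k, hk⟩ := exists_pow_orderOf_three (hR.to_le hWR) y.2 hyne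
  refine ⟨(y : G) ^ k, pow_mem y.2 k, hk, fun r hr => Commute.pow_right ?_ k⟩
  exact mul_inv_eq_iff_eq_mul.1 (congrArg Subtype.val (hy ⟨r, hr⟩))

/-- The centraliser in a 3-group on a full set of an element fixing another. -/
theorem mem_sup_of_commute {F F' : Set Ω} (hF : Full G F) (hF4 : Nat.card F ≤ 4)
    (hF'4 : Nat.card F' ≤ 4) (hne : ¬ F' ⊆ F) {R : Subgroup G} (hR : IsPGroup 3 R)
    (hRF : R ≤ stabilizer G F) {z d : G} (hz : orderOf z = 3) (hd : orderOf d = 3)
    (hzR : z ∈ R) (hdR : d ∈ R) (hzd : Commute z d) (hdz : d ∉ zpowers z)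
    (hd' : fixedBy Ω d = F') {x : G} (hx : x ∈ R) (hxd : Commute x d) :
    x ∈ zpowers z ⊔ zpowers d := by
  set C := R ⊓ centralizer {d} with hC
  have hCF' : ∀ g ∈ C, g ∈ stabilizer G F' := fun g hg => mem_stabilizer_iff.2 (by
    rw [← hd']
    exact smul_fixedBy_of_commute (mem_centralizer_singleton_iff.1 (Subgroup.mem_inf.1 hg).2))
  have h3 := card_le_three (R := C ⊓ fixingSubgroup G F) hF hF'4 hne
    (hR.to_le (inf_le_left.trans inf_le_left)) inf_le_right fun g hg => hCF' g (Subgroup.mem_inf.1 hg).1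
  have h9 := card_le_three_mul hF4 (R := C) (hR.to_le inf_le_left) (inf_le_left.trans hRF)
  have hle : zpowers z ⊔ zpowers d ≤ C := sup_le
    (zpowers_le.2 (Subgroup.mem_inf.2 ⟨hzR, mem_centralizer_singleton_iff.2 hzd.eq⟩))
    (zpowers_le.2 (Subgroup.mem_inf.2 ⟨hdR, mem_centralizer_singleton_iff.2 rfl⟩))
  rw [Subgroup.eq_of_le_of_card_ge hle (by
    rw [card_sup_three hz hd hzd fun h => hdz (zpowers_le.1
      ((zpowers_eq_of_mem hd h (ne_one_of_orderOf_three hz)).ge))]
    omega)]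
  exact Subgroup.mem_inf.2 ⟨hx, mem_centralizer_singleton_iff.2 hxd.eq⟩

variable [FaithfulSMul G Ω] (hodd : ∀ b : Ω, Odd (Nat.card (stabilizer G b)))

/-- The possible conclusions of the odd part. -/
def Concl (P : Sylow 3 G) : Prop :=
  (∃ H : Subgroup G, H ≠ ⊤ ∧ 3 ∣ Nat.card H ∧ ∀ g : G, g ∉ H →
      ¬ 3 ∣ Nat.card ↥(H ⊓ H.map (MulAut.conj g).toMonoidHom)) ∨
    (Nat.card P = 9 ∧ ∀ x ∈ (P : Subgroup G), x ^ 3 = 1)

omit [Finite Ω] [FaithfulSMul G Ω] [Finite G] in
theorem pow_three_of_mem_sup {u v x : G} (hu : orderOf u = 3) (hv : orderOf v = 3) (huv : Commute u v)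
    (hx : x ∈ zpowers u ⊔ zpowers v) : x ^ 3 = 1 := by
  obtain ⟨i, j, rfl⟩ := mem_sup_three hu hv huv hx
  rw [(huv.pow_pow _ _).mul_pow, ← pow_mul, ← pow_mul, mul_comm (i : ℕ), mul_comm (j : ℕ), pow_mul,
    pow_mul, show u ^ 3 = 1 by rw [← hu, pow_orderOf_eq_one],
    show v ^ 3 = 1 by rw [← hv, pow_orderOf_eq_one], one_pow, one_pow, one_mul]

omit [FaithfulSMul G Ω] in
/-- A set stabiliser in which every element of order three fixes exactly that set. -/
theorem strongly_embedded [IsPretransitive G Ω] (P : Sylow 3 G) {F : Set Ω} (hne : F.Nonempty)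
    (huniv : F ≠ Set.univ) (hPF : (P : Subgroup G) ≤ stabilizer G F)
    (hall : ∀ x ∈ (P : Subgroup G), orderOf x = 3 → fixedBy Ω x = F)
    (h3 : 3 ∣ Nat.card G) : Concl P := by
  haveI : Fact (Nat.Prime 3) := ⟨Nat.prime_three⟩
  have hP3 : 3 ∣ Nat.card (P : Subgroup G) := by
    simpa using P.pow_dvd_card_of_pow_dvd_card (n := 1) (by simpa using h3)
  have key : ∀ h ∈ stabilizer G F, orderOf h = 3 → fixedBy Ω h = F := by
    intro h hh ho
    set M := stabilizer G F with hM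
    have hc : IsPGroup 3 (zpowers (⟨h, hh⟩ : M)) := IsPGroup.of_card (n := 1)
      (by rw [Nat.card_zpowers, Subgroup.orderOf_mk, ho, pow_one])
    obtain ⟨Q, hQ⟩ := hc.exists_le_sylow
    obtain ⟨k, hk⟩ := MulAction.exists_smul_eq M Q (P.subtype hPF)
    have hmem : (k : G) * h * (k : G)⁻¹ ∈ (P : Subgroup G) := by
      have h1 : k * ⟨h, hh⟩ * k⁻¹ ∈ ((k • Q : Sylow 3 M) : Subgroup M) :=
        Subgroup.smul_mem_pointwise_smul (⟨h, hh⟩ : M) (MulAut.conj k) _ (hQ (mem_zpowers _))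
      rw [hk] at h1
      exact h1
    have h2 := hall _ hmem
      ((orderOf_injective (MulAut.conj (k : G)).toMonoidHom (MulAut.conj (k : G)).injective h).trans ho)
    rw [fixedBy_conj] at h2
    have hkF := mem_stabilizer_iff.1 (inv_mem k.2)
    rw [← inv_smul_smul (k : G) (fixedBy Ω h), h2]
    exact hkF
  refine Or.inl ⟨stabilizer G F, fun htop => huniv (Set.eq_univ_of_forall fun c => ?_),
    hP3.trans (Subgroup.card_dvd_of_le hPF), fun g hg hdvd => hg ?_⟩
  · obtain ⟨b, hb⟩ := hne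
    obtain ⟨g, rfl⟩ := exists_smul_eq G b c
    rw [← mem_stabilizer_iff.1 (htop ▸ Subgroup.mem_top g : g ∈ stabilizer G F)]
    exact Set.smul_mem_smul_set hb
  · obtain ⟨x, hx⟩ := exists_prime_orderOf_dvd_card'
      (G := ↥(stabilizer G F ⊓ (stabilizer G F).map (MulAut.conj g).toMonoidHom)) 3 hdvd
    have hxo : orderOf (x : G) = 3 := by rw [Subgroup.orderOf_coe, hx]
    obtain ⟨hxM, h, hhM, hhx⟩ := Subgroup.mem_inf.1 x.2
    have e : (x : G) = g * h * g⁻¹ := hhx.symm
    have hho : orderOf h = 3 := by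
      rw [← hxo, e]
      exact (orderOf_injective (MulAut.conj g).toMonoidHom (MulAut.conj g).injective h).symm
    refine mem_stabilizer_iff.2 ?_
    calc g • F = g • fixedBy Ω h := by rw [key h hhM hho]
      _ = fixedBy Ω (x : G) := by rw [e, fixedBy_conj]
      _ = F := key _ hxM hxo

omit [FaithfulSMul G Ω] in
/-- A 3-group has few elements preserving a full set that none of its central elements fixes. -/
theorem stab_le_nine {F : Set Ω} (hF : Full G F) (hF4 : Nat.card F ≤ 4) {R : Subgroup G}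
    (hR : IsPGroup 3 R)
    (hcen : ∀ c ∈ R ⊓ fixingSubgroup G F, orderOf c = 3 → ¬ ∀ r ∈ R, Commute r c) :
    Nat.card ↥(R ⊓ stabilizer G F) ≤ 9 := by
  set W := R ⊓ fixingSubgroup G F with hW
  set N := R ⊓ stabilizer G F with hN
  have hWN : W ≤ N := fun g hg => Subgroup.mem_inf.2
    ⟨(Subgroup.mem_inf.1 hg).1, smul_eq_of_mem_fixing (Subgroup.mem_inf.1 hg).2⟩
  have hNW : N ⊓ fixingSubgroup G F = W := le_antisymm
    (fun g hg => Subgroup.mem_inf.2
      ⟨(Subgroup.mem_inf.1 (Subgroup.mem_inf.1 hg).1).1, (Subgroup.mem_inf.1 hg).2⟩)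
    (le_inf hWN inf_le_right)
  have h3 := card_le_three_mul hF4 (R := N) (hR.to_le inf_le_left) inf_le_right
  rw [hNW] at h3
  by_cases hW1 : W = ⊥
  · rw [hW1, Subgroup.card_bot] at h3
    omega
  have hnorm : ∀ r ∈ N, ∀ x ∈ W, r * x * r⁻¹ ∈ W := by
    intro r hr x hx
    obtain ⟨hrR, hrF⟩ := Subgroup.mem_inf.1 hr
    obtain ⟨hxR, hxF⟩ := Subgroup.mem_inf.1 hx
    refine Subgroup.mem_inf.2 ⟨mul_mem (mul_mem hrR hxR) (inv_mem hrR),
      (mem_fixingSubgroup_iff G).2 fun c hc => ?_⟩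
    have hc' : r⁻¹ • c ∈ F := by
      rw [← mem_stabilizer_iff.1 (inv_mem hrF)]
      exact Set.smul_mem_smul_set hc
    rw [mul_smul, mul_smul, (mem_fixingSubgroup_iff G).1 hxF _ hc', smul_inv_smul]
  obtain ⟨s, hs, hsN⟩ : ∃ s ∈ R, s ∉ N := by
    by_contra hall
    push Not at hall
    obtain ⟨c, hc, hco, hcc⟩ := exists_central hR inf_le_left hW1 fun r hr => hnorm r (hall r hr)
    exact hcen c hc hco hcc
  haveI : Fact (Nat.Prime 3) := ⟨Nat.prime_three⟩
  haveI := hR.isNilpotent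
  have hlt : N.subgroupOf R < ⊤ := lt_top_iff_ne_top.2 fun e => hsN
    (Subgroup.subgroupOf_eq_top.1 e hs)
  obtain ⟨g, hg, hgN⟩ := SetLike.exists_of_lt (Group.normalizerCondition_of_isNilpotent _ hlt)
  have hgF : (g : G) • F ≠ F := fun e => hgN (mem_subgroupOf.2 (Subgroup.mem_inf.2
    ⟨g.2, mem_stabilizer_iff.2 e⟩))
  -- `W` times its conjugate lies in `N`
  let f : W × W → N := fun p => ⟨p.1 * ((g : G) * p.2 * (g : G)⁻¹), mul_mem (hWN p.1.2) (by
    have := (Subgroup.mem_normalizer_iff.1 hg ⟨(p.2 : G), (Subgroup.mem_inf.1 p.2.2).1⟩).1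
      (mem_subgroupOf.2 (hWN p.2.2))
    exact mem_subgroupOf.1 this)⟩
  have hinj : Function.Injective f := by
    rintro ⟨a, b⟩ ⟨a', b'⟩ e
    have e' : (a : G) * ((g : G) * b * (g : G)⁻¹) = a' * ((g : G) * b' * (g : G)⁻¹) :=
      congrArg Subtype.val e
    have h1 : (a' : G)⁻¹ * a = (g : G) * ((b' : G) * (b : G)⁻¹) * (g : G)⁻¹ := by
      calc (a' : G)⁻¹ * a = (a' : G)⁻¹ * (a * ((g : G) * b * (g : G)⁻¹)) *
            ((g : G) * b * (g : G)⁻¹)⁻¹ := by group
        _ = (g : G) * ((b' : G) * (b : G)⁻¹) * (g : G)⁻¹ := by rw [e']; group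
    set x := (a' : G)⁻¹ * a with hx
    have hxW : x ∈ W := mul_mem (inv_mem a'.2) a.2
    have hx1 : x = 1 := by
      by_contra hx1
      obtain ⟨k, hk⟩ := exists_pow_orderOf_three (hR.to_le inf_le_left) hxW hx1
      have hsub1 : F ⊆ fixedBy Ω (x ^ k) := fun c hc =>
        (mem_fixingSubgroup_iff G).1 (Subgroup.mem_inf.1 (pow_mem hxW k)).2 c hc
      have hsub2 : (g : G) • F ⊆ fixedBy Ω (x ^ k) := by
        rw [h1, conj_pow, fixedBy_conj]
        refine Set.smul_set_mono fun c hc => ?_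
        exact (mem_fixingSubgroup_iff G).1
          (Subgroup.mem_inf.1 (pow_mem (mul_mem b'.2 (inv_mem b.2)) k)).2 c hc
      exact hgF ((hF.smul g _ hk hsub2).symm.trans (hF _ hk hsub1))
    have hb : (b' : G) * (b : G)⁻¹ = 1 := conj_eq_one_iff.1 (h1.symm.trans hx1)
    exact Prod.ext (Subtype.ext (inv_mul_eq_one.1 hx1).symm)
      (Subtype.ext (mul_inv_eq_one.1 hb).symm)
  have h4 := Nat.card_le_card_of_injective f hinj
  rw [Nat.card_prod] at h4
  have hW3 : Nat.card W ≤ 3 := Nat.le_of_mul_le_mul_right (h4.trans h3) Nat.card_pos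
  omega

variable (hperf : commutator G = ⊤) (P : Sylow 3 G)
include hodd hperf

/-- A central element of order three with a full set of fixed points. -/
theorem central_case [IsPretransitive G Ω] (h3 : 3 ∣ Nat.card G) {z : G}
    (hzP : z ∈ (P : Subgroup G)) (hz : orderOf z = 3) (hzc : ∀ x ∈ (P : Subgroup G), Commute x z)
    {F : Set Ω} (hFz : fixedBy Ω z = F) (hFull : Full G F)
    (hne : F.Nonempty) (huniv : F ≠ Set.univ) (hn : Nat.card F = 3 ∨ Nat.card F = 4) : Concl P := by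
  haveI : Fact (Nat.Prime 3) := ⟨Nat.prime_three⟩
  have hF4 : Nat.card F ≤ 4 := by omega
  have hPF : (P : Subgroup G) ≤ stabilizer G F := fun x hx => mem_stabilizer_iff.2 (by
    rw [← hFz]; exact smul_fixedBy_of_commute (hzc x hx))
  by_cases hall : ∀ x ∈ (P : Subgroup G), orderOf x = 3 → ∀ c ∈ F, x • c = c
  · exact strongly_embedded P hne huniv hPF (fun x hx ho => hFull x ho (hall x hx ho)) h3
  push Not at hall
  obtain ⟨y, hyP, hy, c₀, hc₀, hyc₀⟩ := hall
  set c : stabilizer G F := ⟨y, hPF hyP⟩ with hcdef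
  have hc3 : setPerm F c * setPerm F c * setPerm F c = 1 := by
    rw [← map_mul, ← map_mul, show c * c * c = 1 from Subtype.ext (mul_mul_eq_one hy), map_one]
  have hc1 : setPerm F c ≠ 1 := fun e => hyc₀ (setPerm_eq_one.1 e c₀ hc₀)
  have e := Finite.equivFin F
  have hyz : Commute y z := hzc y hyP
  -- a further set preserved by `y` and `z`
  obtain ⟨g, hgy, hgz, hgF⟩ : ∃ g : G, g⁻¹ * y * g ∈ stabilizer G F ∧
      g⁻¹ * z * g ∈ stabilizer G F ∧ g ∉ stabilizer G F := by
    by_contra hno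
    push Not at hno
    obtain ⟨ψ, hψ⟩ := exists_hom hodd hn e hc3 hc1
    refine hψ ?_
    have h1 := transfer_eq_of_only pow_three_zmod ψ hy hz hyz (hPF hyP) (hPF hzP) hno
    exact h1.symm.trans (hom_eq_one hperf (MonoidHom.transfer ψ) y)
  set F' := g • F with hF'
  have hpres : ∀ x : G, g⁻¹ * x * g ∈ stabilizer G F → x ∈ stabilizer G F' := by
    intro x hx
    rw [mem_stabilizer_iff, hF']
    have := congrArg (g • ·) (mem_stabilizer_iff.1 hx)
    simpa [smul_smul, mul_assoc] using this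
  have hne' : F' ≠ F := fun e1 => hgF (mem_stabilizer_iff.2 e1)
  have hcard' : Nat.card F' = Nat.card F := by
    rw [Nat.card_coe_set_eq, Nat.card_coe_set_eq, hF', Set.ncard_smul_set]
  have hF'F : ¬ F' ⊆ F := fun hs => hne' (Set.eq_of_subset_of_ncard_le hs
    (by rw [← Nat.card_coe_set_eq, ← Nat.card_coe_set_eq, hcard']) (Set.toFinite _))
  have hFF' : ¬ F ⊆ F' := fun hs => hne' (Set.eq_of_subset_of_ncard_le hs
    (by rw [← Nat.card_coe_set_eq, ← Nat.card_coe_set_eq, hcard']) (Set.toFinite _)).symm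
  have hyne : y ∉ zpowers z := fun hy' => hyc₀ (by
    have h1 : z ∈ stabilizer G c₀ := mem_stabilizer_iff.2 (hFz.ge hc₀ : c₀ ∈ fixedBy Ω z)
    exact mem_stabilizer_iff.1 (zpowers_le.2 h1 hy'))
  set E := zpowers y ⊔ zpowers z with hE
  have hE9 : Nat.card E = 9 := card_sup_three hy hz hyz hyne
  have hEP : E ≤ (P : Subgroup G) := sup_le (zpowers_le.2 hyP) (zpowers_le.2 hzP)
  have hEF' : E ≤ stabilizer G F' :=
    sup_le (zpowers_le.2 (hpres y hgy)) (zpowers_le.2 (hpres z hgz))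
  obtain ⟨d, hdE, hd1, hdF'⟩ : ∃ d ∈ E, d ≠ 1 ∧ ∀ c ∈ F', d • c = c := by
    by_contra hno
    push Not at hno
    have h1 := card_le_three_mul (F := F') (by omega) (R := E) (P.isPGroup'.to_le hEP) hEF'
    have hbot : E ⊓ fixingSubgroup G F' = ⊥ := (Subgroup.eq_bot_iff_forall _).2 fun x hx => by
      by_contra hx1
      obtain ⟨c, hc, hne1⟩ := hno x (Subgroup.mem_inf.1 hx).1 hx1
      exact hne1 ((mem_fixingSubgroup_iff G).1 (Subgroup.mem_inf.1 hx).2 c hc)
    rw [hbot, Subgroup.card_bot, hE9] at h1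
    omega
  have hd : orderOf d = 3 := orderOf_eq_prime (pow_three_of_mem_sup hy hz hyz hdE) hd1
  have hdfix : fixedBy Ω d = F' := (hFull.smul g) d hd hdF'
  have hdz : d ∉ zpowers z := fun hdz' => hF'F (by
    have h1 : ∀ c ∈ F, d • c = c := fun c hc => mem_stabilizer_iff.1 (zpowers_le.2
      (mem_stabilizer_iff.2 (hFz.ge hc : c ∈ fixedBy Ω z)) hdz')
    rw [← hdfix, hFull d hd h1])
  have hdP : d ∈ (P : Subgroup G) := hEP hdE
  have hzd : Commute z d := (hzc d hdP).symm
  have hzd' : z ∉ zpowers d := fun h => hdz (zpowers_le.1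
    ((zpowers_eq_of_mem hd h (ne_one_of_orderOf_three hz)).ge))
  have hCd : ∀ x ∈ (P : Subgroup G), Commute x d → x ∈ zpowers z ⊔ zpowers d := fun x hx hxd =>
    mem_sup_of_commute hFull hF4 (by omega) hF'F P.isPGroup' hPF hz hd hzP hdP hzd hdz hdfix hx hxd
  obtain ⟨k, hk⟩ := P.isPGroup'.exists_card_eq
  have hP9 : 9 ≤ Nat.card (P : Subgroup G) := hE9 ▸ Subgroup.card_le_of_le hEP
  rcases eq_or_lt_of_le hP9 with h9 | h9
  · refine Or.inr ⟨h9.symm, fun x hx => pow_three_of_mem_sup hy hz hyz ?_⟩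
    rw [← hE, Subgroup.eq_of_le_of_card_ge hEP (by rw [hE9, h9])]
    exact hx
  exfalso
  -- a Sylow subgroup of the stabiliser of `F'` containing `E`
  obtain ⟨Q, hQ⟩ := ((P.isPGroup'.to_le hEP).of_equiv (subgroupOfEquivOfLe hEF').symm).exists_le_sylow
  set R := (Q : Subgroup (stabilizer G F')).map (stabilizer G F').subtype with hR
  have hR3 : IsPGroup 3 R := Q.isPGroup'.map _
  have hRF' : R ≤ stabilizer G F' := by
    rintro _ ⟨r, -, rfl⟩
    exact r.2
  have hER : E ≤ R := fun x hx => ⟨⟨x, hEF' hx⟩, hQ (mem_subgroupOf.2 hx), rfl⟩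
  have hR9 : 9 < Nat.card R := by
    rw [hR, Subgroup.card_map_of_injective (stabilizer G F').subtype_injective]
    have hle : (P : Subgroup G).map (MulAut.conj g).toMonoidHom ≤ stabilizer G F' := by
      rintro _ ⟨x, hx, rfl⟩
      refine hpres _ ?_
      show g⁻¹ * (g * x * g⁻¹) * g ∈ _
      rw [show g⁻¹ * (g * x * g⁻¹) * g = x by group]
      exact hPF hx
    have h1 := Subgroup.card_dvd_of_le hle
    rw [Subgroup.card_map_of_injective (MulAut.conj g).injective, hk] at h1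
    have h2 := Nat.le_of_dvd Nat.card_pos (Q.pow_dvd_card_of_pow_dvd_card h1)
    rw [hk] at h9
    omega
  have hzR : z ∈ R := hER (mem_sup_right (mem_zpowers z))
  have hdR : d ∈ R := hER hdE
  -- `d` is central in `R`
  set W' := R ⊓ fixingSubgroup G F' with hW'
  have hdW' : d ∈ W' := Subgroup.mem_inf.2 ⟨hdR, (mem_fixingSubgroup_iff G).2 hdF'⟩
  obtain ⟨e₁, he₁W, he₁, he₁c⟩ := exists_central hR3 (W := W') inf_le_left
    (fun e1 => hd1 (Subgroup.mem_bot.1 (e1 ▸ hdW'))) fun r hr x hx => by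
      obtain ⟨hxR, hxF⟩ := Subgroup.mem_inf.1 hx
      refine Subgroup.mem_inf.2 ⟨mul_mem (mul_mem hr hxR) (inv_mem hr),
        (mem_fixingSubgroup_iff G).2 fun c hc => ?_⟩
      have hc' : r⁻¹ • c ∈ F' := by
        rw [← mem_stabilizer_iff.1 (inv_mem (hRF' hr))]
        exact Set.smul_mem_smul_set hc
      rw [mul_smul, mul_smul, (mem_fixingSubgroup_iff G).1 hxF _ hc', smul_inv_smul]
  have hWz : W' ⊓ centralizer {z} = zpowers d := by
    refine (Subgroup.eq_of_le_of_card_ge (zpowers_le.2 (Subgroup.mem_inf.2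
      ⟨hdW', mem_centralizer_singleton_iff.2 hzd.symm.eq⟩)) ?_).symm
    rw [Nat.card_zpowers, hd]
    refine card_le_three (hFull.smul g) hF4 hFF' (hR3.to_le (inf_le_left.trans inf_le_left))
      (inf_le_left.trans inf_le_right) fun x hx => mem_stabilizer_iff.2 ?_
    rw [← hFz]
    exact smul_fixedBy_of_commute (mem_centralizer_singleton_iff.1 (Subgroup.mem_inf.1 hx).2)
  have hdc : ∀ x ∈ R, Commute x d := by
    have he₁d : e₁ ∈ zpowers d := hWz ▸ Subgroup.mem_inf.2
      ⟨he₁W, mem_centralizer_singleton_iff.2 (he₁c z hzR).symm.eq⟩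
    have hde : d ∈ zpowers e₁ := by
      rw [zpowers_eq_of_mem hd he₁d (ne_one_of_orderOf_three he₁)]; exact mem_zpowers d
    intro x hx
    obtain ⟨i, hi⟩ := mem_zpowers_iff.1 hde
    rw [← hi]
    exact (he₁c x hx).zpow_right i
  have hCz : ∀ x ∈ R, Commute x z → x ∈ zpowers d ⊔ zpowers z := fun x hx hxz =>
    mem_sup_of_commute (hFull.smul g) (hcard'.trans_le hF4) hF4 hFF' hR3 hRF' hd hz hdR hzR hzd.symm hzd' hFz
      hx hxz
  obtain ⟨s, hs, -⟩ := exists_inverter P.isPGroup' hR3 hz hd hdz hzP hdP hzR hdR hzc hdc hCd hCz h9 hR9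
  refine no_inverter hodd hn e hc3 hc1 (g := s) ?_ hz hyz hs
  rw [mem_stabilizer_iff, ← hFz, ← fixedBy_conj, hs, MulAction.fixedBy_inv]

/-- An element of order three fixing more points than every central one. -/
theorem noncentral_case {w z : G} (hwP : w ∈ (P : Subgroup G)) (hw : orderOf w = 3)
    (hzP : z ∈ (P : Subgroup G)) (hz : orderOf z = 3) (hzc : ∀ x ∈ (P : Subgroup G), Commute x z)
    {F : Set Ω} (hFw : fixedBy Ω w = F) (hFull : Full G F)
    (hn : Nat.card F = 3 ∨ Nat.card F = 4)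
    (hsmall : ∀ c ∈ (P : Subgroup G), orderOf c = 3 → (∀ x ∈ (P : Subgroup G), Commute x c) →
      Nat.card (fixedBy Ω c) < Nat.card F) : Concl P := by
  haveI : Fact (Nat.Prime 3) := ⟨Nat.prime_three⟩
  have hF4 : Nat.card F ≤ 4 := by omega
  have hwz : Commute w z := hzc w hwP
  have hzF : z ∈ stabilizer G F := mem_stabilizer_iff.2 (by
    rw [← hFw]; exact smul_fixedBy_of_commute hwz.symm)
  -- no central element of a Sylow subgroup fixes `F`
  have hcen : ∀ R : Sylow 3 G, ∀ c ∈ (R : Subgroup G) ⊓ fixingSubgroup G F, orderOf c = 3 →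
      ¬ ∀ r ∈ (R : Subgroup G), Commute r c := by
    intro R c hc hco hcc
    obtain ⟨g, hg⟩ := MulAction.exists_smul_eq G R P
    have hmap : ∀ x ∈ (R : Subgroup G), g * x * g⁻¹ ∈ (P : Subgroup G) := fun x hx => by
      have h1 : g * x * g⁻¹ ∈ ((g • R : Sylow 3 G) : Subgroup G) :=
        Subgroup.smul_mem_pointwise_smul x (MulAut.conj g) _ hx
      rwa [hg] at h1
    have hfix : fixedBy Ω c = F :=
      hFull c hco ((mem_fixingSubgroup_iff G).1 (Subgroup.mem_inf.1 hc).2)
    refine absurd (hsmall (g * c * g⁻¹) (hmap c (Subgroup.mem_inf.1 hc).1)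
      ((orderOf_injective (MulAut.conj g).toMonoidHom (MulAut.conj g).injective c).trans hco)
      fun x hx => ?_) ?_
    · have hx' : g⁻¹ * x * g ∈ (R : Subgroup G) := by
        have h1 : g⁻¹ * x * g⁻¹⁻¹ ∈ ((g⁻¹ • P : Sylow 3 G) : Subgroup G) :=
          Subgroup.smul_mem_pointwise_smul x (MulAut.conj g⁻¹) _ hx
        rw [← hg, inv_smul_smul, inv_inv] at h1
        exact h1
      have h2 := hcc _ hx'
      calc x * (g * c * g⁻¹) = g * ((g⁻¹ * x * g) * c) * g⁻¹ := by group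
        _ = g * (c * (g⁻¹ * x * g)) * g⁻¹ := by rw [h2.eq]
        _ = g * c * g⁻¹ * x := by group
    · rw [fixedBy_conj, hfix, Nat.card_coe_set_eq, Nat.card_coe_set_eq, Set.ncard_smul_set]
      omega
  have hzF1 : ¬ ∀ c ∈ F, z • c = c := fun h => hcen P z
    (Subgroup.mem_inf.2 ⟨hzP, (mem_fixingSubgroup_iff G).2 h⟩) hz hzc
  have hwne : w ∉ zpowers z := fun hmem => hzF1 (by
    intro c hc
    have hwc : w ∈ stabilizer G c := mem_stabilizer_iff.2 (hFw.ge hc : c ∈ fixedBy Ω w)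
    rw [← zpowers_le] at hwc
    rw [zpowers_eq_of_mem hz hmem (ne_one_of_orderOf_three hw)] at hwc
    exact mem_stabilizer_iff.1 (zpowers_le.1 hwc))
  have hE9 : Nat.card ↥(zpowers w ⊔ zpowers z) = 9 := card_sup_three hw hz hwz hwne
  have hEP : zpowers w ⊔ zpowers z ≤ (P : Subgroup G) :=
    sup_le (zpowers_le.2 hwP) (zpowers_le.2 hzP)
  have hP9 : 9 ≤ Nat.card (P : Subgroup G) := hE9 ▸ Subgroup.card_le_of_le hEP
  rcases eq_or_lt_of_le hP9 with h9 | h9
  · refine Or.inr ⟨h9.symm, fun x hx => pow_three_of_mem_sup hw hz hwz ?_⟩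
    rw [Subgroup.eq_of_le_of_card_ge hEP (by rw [hE9, h9])]
    exact hx
  exfalso
  obtain ⟨k, hk⟩ := P.isPGroup'.exists_card_eq
  have h27P : 27 ∣ Nat.card (P : Subgroup G) := by
    rw [hk] at h9 ⊢
    refine (show (27 : ℕ) = 3 ^ 3 by norm_num) ▸ pow_dvd_pow 3 ?_
    by_contra hk3
    interval_cases k <;> simp at h9
  have hcent : ∀ x : G, Commute x w → x ∈ stabilizer G F := fun x hx => mem_stabilizer_iff.2 (by
    rw [← hFw]; exact smul_fixedBy_of_commute hx)
  have hC9 : Nat.card ↥((P : Subgroup G) ⊓ centralizer {w}) = 9 := by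
    refine le_antisymm ?_ ?_
    · refine le_trans (Subgroup.card_le_of_le (le_inf inf_le_left ?_))
        (stab_le_nine hFull hF4 P.isPGroup' (hcen P))
      exact fun x hx => hcent x (mem_centralizer_singleton_iff.1 (Subgroup.mem_inf.1 hx).2)
    · rw [← hE9]
      refine Subgroup.card_le_of_le (le_inf hEP (sup_le ?_ ?_))
      · exact zpowers_le.2 (mem_centralizer_singleton_iff.2 rfl)
      · exact zpowers_le.2 (mem_centralizer_singleton_iff.2 hwz.symm.eq)
  have h27 : ¬ 27 ∣ Nat.card ↥(centralizer ({w} : Set G)) := by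
    intro h
    obtain ⟨Q⟩ : Nonempty (Sylow 3 ↥(centralizer ({w} : Set G))) := inferInstance
    have hQ27 := Q.pow_dvd_card_of_pow_dvd_card (n := 3) (by simpa using h)
    set R₀ := (Q : Subgroup ↥(centralizer ({w} : Set G))).map (centralizer ({w} : Set G)).subtype
      with hR₀
    obtain ⟨R, hR⟩ := (Q.isPGroup'.map (centralizer ({w} : Set G)).subtype).exists_le_sylow
    have hle : R₀ ≤ (R : Subgroup G) ⊓ stabilizer G F := le_inf hR (by
      rintro _ ⟨r, -, rfl⟩
      exact hcent _ (mem_centralizer_singleton_iff.1 r.2))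
    have h1 := (Subgroup.card_le_of_le hle).trans (stab_le_nine hFull hF4 R.isPGroup' (hcen R))
    rw [hR₀, Subgroup.card_map_of_injective (centralizer ({w} : Set G)).subtype_injective] at h1
    have h2 := Nat.le_of_dvd Nat.card_pos hQ27
    omega
  have hreal : ¬ IsConj w w⁻¹ := by
    intro h
    obtain ⟨g, hg⟩ := isConj_iff.1 h
    set c : stabilizer G F := ⟨z, hzF⟩ with hc
    have hc3 : setPerm F c * setPerm F c * setPerm F c = 1 := by
      rw [← map_mul, ← map_mul, show c * c * c = 1 from Subtype.ext (mul_mul_eq_one hz), map_one]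
    refine no_inverter hodd hn (Finite.equivFin F) hc3 (fun e => hzF1 (setPerm_eq_one.1 e))
      (g := g) ?_ hw hwz.symm hg
    rw [mem_stabilizer_iff, ← hFw, ← fixedBy_conj, hg, MulAction.fixedBy_inv]
  exact three_transfer hperf P h27P hwP hw hC9 h27 hreal

end CfsgLib.Perm.FixityFour.OddPart
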