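import Mathlib.GroupTheory.Perm.Sign
import Mathlib.Data.ZMod.Basic
import Mathlib.Data.Fintype.Perm
import Mathlib.Data.Fintype.Powerset
import Mathlib.Data.Fintype.Prod
import Mathlib.Algebra.BigOperators.Group.Finset.Basic

/-!
# Permutations of three and four letters

The even permutations of three or four letters map onto a group of order three; small facts
checked by evaluation.
-/

set_option autoImplicit false

namespace CfsgLib.Perm.FixityFour.OddPart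

open Equiv

/-- The shift induced on the three pairings of four letters, or of three letters. -/
def chi : {n : ℕ} → Perm (Fin n) → ZMod 3
  | 3, σ => ((σ 0).val : ZMod 3)
  | 4, σ => ((Nat.xor (σ 0).val (σ 1).val : ℕ) : ZMod 3) - 1
  | _, _ => 0

theorem chi_mul_three : ∀ σ τ : Perm (Fin 3), Perm.sign σ = 1 → Perm.sign τ = 1 →
    chi (σ * τ) = chi σ + chi τ := by decide +kernel

theorem chi_mul_four : ∀ σ τ : Perm (Fin 4), Perm.sign σ = 1 → Perm.sign τ = 1 →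
    chi (σ * τ) = chi σ + chi τ := by decide +kernel

theorem chi_cycle_three : ∀ τ : Perm (Fin 3), τ * τ * τ = 1 → τ ≠ 1 → chi τ ≠ 0 := by
  decide +kernel

theorem chi_cycle_four : ∀ τ : Perm (Fin 4), τ * τ * τ = 1 → τ ≠ 1 → chi τ ≠ 0 := by
  decide +kernel

theorem odd_perm_three : ∀ σ τ : Perm (Fin 3), τ * τ * τ = 1 → τ ≠ 1 → Perm.sign σ ≠ 1 →
    ∃ k : Fin 3, (σ * τ ^ (k : ℕ)) * (σ * τ ^ (k : ℕ)) = 1 ∧ σ * τ ^ (k : ℕ) ≠ 1 ∧
      ∃ i, (σ * τ ^ (k : ℕ)) i = i := by decide +kernel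

theorem odd_perm_four : ∀ σ τ : Perm (Fin 4), τ * τ * τ = 1 → τ ≠ 1 → Perm.sign σ ≠ 1 →
    ∃ k : Fin 3, (σ * τ ^ (k : ℕ)) * (σ * τ ^ (k : ℕ)) = 1 ∧ σ * τ ^ (k : ℕ) ≠ 1 ∧
      ∃ i, (σ * τ ^ (k : ℕ)) i = i := by decide +kernel

theorem even_perm_three : ∀ σ τ : Perm (Fin 3), τ * τ * τ = 1 → τ ≠ 1 → Perm.sign σ = 1 →
    ∃ k : Fin 3, ∃ i, (σ * τ ^ (k : ℕ)) i = i := by decide +kernel

theorem even_perm_four : ∀ σ τ : Perm (Fin 4), τ * τ * τ = 1 → τ ≠ 1 → Perm.sign σ = 1 →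
    ∃ k : Fin 3, ∃ i, (σ * τ ^ (k : ℕ)) i = i := by decide +kernel

theorem commute_of_chi : ∀ σ τ : Perm (Fin 4),
    (Perm.sign σ = 1 ∧ Perm.sign τ = 1 ∧ chi σ = (0 : ZMod 3) ∧ chi τ = (0 : ZMod 3)) →
      σ * τ = τ * σ := by decide +kernel

theorem sum_ne_zero : ∀ J : Finset (ZMod 3 × ZMod 3), (0 : ZMod 3 × ZMod 3) ∉ J →
    (∀ x ∈ J, -x ∉ J) → ¬ 3 ∣ J.card → J.sum id ≠ 0 := by decide +kernel

end CfsgLib.Perm.FixityFour.OddPart
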