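import Mathlib
import Cfsg.Agent.Lib.Perm.FixityFour.OddPart.Perms

/-!
# Tools for the odd part of the fixity four theorem

Point stabilisers have odd order and every nontrivial element fixes at most four points.
-/

set_option autoImplicit false
set_option linter.style.haveILetI false

namespace CfsgLib.Perm.FixityFour.OddPart

open MulAction Subgroup
open scoped Pointwise

section group

variable {G : Type*} [Group G]

theorem mul_mul_eq_one {u : G} (hu : orderOf u = 3) : u * u * u = 1 := by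
  have := pow_orderOf_eq_one u
  rwa [hu, pow_succ, pow_two] at this

theorem ne_one_of_orderOf_three {u : G} (hu : orderOf u = 3) : u ≠ 1 := fun e => by
  rw [e, orderOf_one] at hu; omega

theorem zpow_eq_pow_three {u : G} (hu : orderOf u = 3) (i : ℤ) : ∃ k : Fin 3, u ^ i = u ^ (k : ℕ) := by
  refine ⟨⟨(i % 3).toNat, by omega⟩, ?_⟩
  rw [← zpow_natCast u, Int.toNat_of_nonneg (by omega), ← zpow_mod_orderOf, hu]
  rfl

theorem mem_zpowers_three {u x : G} (hu : orderOf u = 3) (hx : x ∈ zpowers u) :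
    x = 1 ∨ x = u ∨ x = u⁻¹ := by
  obtain ⟨i, rfl⟩ := mem_zpowers_iff.1 hx
  obtain ⟨k, hk⟩ := zpow_eq_pow_three hu i
  rw [hk]
  have hk3 := k.2
  match hv : (k : ℕ) with
  | 0 => exact Or.inl (pow_zero u)
  | 1 => exact Or.inr (Or.inl (pow_one u))
  | 2 =>
    refine Or.inr (Or.inr ?_)
    rw [pow_two]
    exact (inv_eq_of_mul_eq_one_left (mul_mul_eq_one hu)).symm
  | k + 3 => omega

/-- A nontrivial element of a cyclic group of order three generates it. -/
theorem zpowers_eq_of_mem {u x : G} (hu : orderOf u = 3) (hx : x ∈ zpowers u) (hx1 : x ≠ 1) :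
    zpowers x = zpowers u := by
  rcases mem_zpowers_three hu hx with rfl | rfl | rfl
  · exact absurd rfl hx1
  · rfl
  · exact zpowers_inv (g := u)

/-- An element of odd order inverts no element of order three. -/
theorem no_odd_inverter {g z : G} (hg : Odd (orderOf g)) (hz : orderOf z = 3)
    (h : g * z * g⁻¹ = z⁻¹) : False := by
  obtain ⟨m, hm⟩ := hg
  have hc : Commute (g ^ 2) z := by
    refine mul_inv_eq_iff_eq_mul.1 ?_
    calc g ^ 2 * z * (g ^ 2)⁻¹ = g * (g * z * g⁻¹) * g⁻¹ := by rw [pow_two]; group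
      _ = g * z⁻¹ * g⁻¹ := by rw [h]
      _ = (g * z * g⁻¹)⁻¹ := by group
      _ = z := by rw [h, inv_inv]
  have hgc : Commute g z := by
    have e : g = (g ^ 2) ^ (m + 1) := by
      rw [← pow_mul, show 2 * (m + 1) = 2 * m + 1 + 1 by ring, ← hm, pow_succ, pow_orderOf_eq_one,
        one_mul]
    rw [e]
    exact hc.pow_left _
  rw [hgc.eq, mul_inv_cancel_right] at h
  have h2 : orderOf z ∣ 2 := orderOf_dvd_of_pow_eq_one (by rw [pow_two]; nth_rw 2 [h]; simp)
  rw [hz] at h2
  omega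

theorem mem_sup_zpowers {u v x : G} (huv : Commute u v) :
    x ∈ zpowers u ⊔ zpowers v ↔ ∃ i j : ℤ, x = u ^ i * v ^ j := by
  constructor
  · let K : Subgroup G :=
      { carrier := {x | ∃ i j : ℤ, x = u ^ i * v ^ j}
        one_mem' := ⟨0, 0, by simp⟩
        mul_mem' := by
          rintro _ _ ⟨i, j, rfl⟩ ⟨k, l, rfl⟩
          refine ⟨i + k, j + l, ?_⟩
          rw [zpow_add, zpow_add, mul_assoc, ← mul_assoc (v ^ j),
            ((huv.zpow_zpow k j).symm).eq]
          group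
        inv_mem' := by
          rintro _ ⟨i, j, rfl⟩
          refine ⟨-i, -j, ?_⟩
          rw [mul_inv_rev, zpow_neg, zpow_neg, ((huv.zpow_zpow i j).inv_inv).eq] }
    intro hx
    have hle : zpowers u ⊔ zpowers v ≤ K :=
      sup_le (zpowers_le.2 ⟨1, 0, by simp⟩) (zpowers_le.2 ⟨0, 1, by simp⟩)
    exact hle hx
  · rintro ⟨i, j, rfl⟩
    exact mul_mem (mem_sup_left (zpow_mem (mem_zpowers u) i))
      (mem_sup_right (zpow_mem (mem_zpowers v) j))

theorem mem_sup_three {u v x : G} (hu : orderOf u = 3) (hv : orderOf v = 3) (huv : Commute u v)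
    (hx : x ∈ zpowers u ⊔ zpowers v) : ∃ i j : Fin 3, x = u ^ (i : ℕ) * v ^ (j : ℕ) := by
  obtain ⟨i, j, rfl⟩ := (mem_sup_zpowers huv).1 hx
  obtain ⟨k, hk⟩ := zpow_eq_pow_three hu i
  obtain ⟨l, hl⟩ := zpow_eq_pow_three hv j
  exact ⟨k, l, by rw [hk, hl]⟩

theorem commute_sup {u v x : G} (huv : Commute u v) (hx : x ∈ zpowers u ⊔ zpowers v) :
    Commute x u ∧ Commute x v := by
  obtain ⟨i, j, rfl⟩ := (mem_sup_zpowers huv).1 hx
  exact ⟨((Commute.refl u).zpow_left i).mul_left (huv.symm.zpow_left j),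
    (huv.zpow_left i).mul_left ((Commute.refl v).zpow_left j)⟩

theorem card_sup_three {u v : G} (hu : orderOf u = 3) (hv : orderOf v = 3) (huv : Commute u v)
    (hne : u ∉ zpowers v) : Nat.card ↥(zpowers u ⊔ zpowers v) = 9 := by
  let f : Fin 3 × Fin 3 → ↥(zpowers u ⊔ zpowers v) := fun p =>
    ⟨u ^ (p.1 : ℕ) * v ^ (p.2 : ℕ), mul_mem (mem_sup_left (pow_mem (mem_zpowers u) _))
      (mem_sup_right (pow_mem (mem_zpowers v) _))⟩
  have hf : Function.Bijective f := by
    refine ⟨?_, fun x => ?_⟩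
    · rintro ⟨i, j⟩ ⟨k, l⟩ e
      have e' : u ^ (i : ℕ) * v ^ (j : ℕ) = u ^ (k : ℕ) * v ^ (l : ℕ) := congrArg Subtype.val e
      have h1 : u ^ ((i : ℤ) - (k : ℤ)) = v ^ ((l : ℤ) - (j : ℤ)) := by
        rw [← zpow_natCast u, ← zpow_natCast u, ← zpow_natCast v, ← zpow_natCast v] at e'
        calc u ^ ((i : ℤ) - (k : ℤ)) = u ^ (-(k : ℤ)) * (u ^ (i : ℤ) * v ^ (j : ℤ)) * v ^ (-(j : ℤ)) := by
              group
          _ = v ^ ((l : ℤ) - (j : ℤ)) := by rw [e']; group
      have hik : i = k := by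
        by_contra hne'
        have hmem : u ^ ((i : ℤ) - (k : ℤ)) ∈ zpowers v := h1 ▸ zpow_mem (mem_zpowers v) _
        have hne1 : u ^ ((i : ℤ) - (k : ℤ)) ≠ 1 := by
          rw [Ne, ← orderOf_dvd_iff_zpow_eq_one, hu]
          have hi := i.2
          have hk := k.2
          have : (i : ℕ) ≠ (k : ℕ) := fun e => hne' (Fin.ext e)
          omega
        exact hne (zpowers_le.1 ((zpowers_eq_of_mem hu (zpow_mem (mem_zpowers u) _) hne1).ge.trans
          (zpowers_le.2 hmem)))
      subst hik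
      have h2 : v ^ (j : ℕ) = v ^ (l : ℕ) := mul_left_cancel e'
      rw [pow_inj_mod, hv, Nat.mod_eq_of_lt j.2, Nat.mod_eq_of_lt l.2] at h2
      exact Prod.ext rfl (Fin.ext h2)
    · obtain ⟨i, j, h⟩ := mem_sup_three hu hv huv x.2
      exact ⟨(i, j), Subtype.ext h.symm⟩
  rw [← Nat.card_eq_of_bijective f hf, Nat.card_prod, Nat.card_eq_fintype_card, Fintype.card_fin]

/-- Some power of a nontrivial element of a 3-group has order three. -/
theorem exists_pow_orderOf_three {R : Subgroup G} (hR : IsPGroup 3 R) {x : G} (hx : x ∈ R)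
    (hx1 : x ≠ 1) : ∃ k : ℕ, orderOf (x ^ k) = 3 := by
  obtain ⟨m, hm⟩ := hR ⟨x, hx⟩
  obtain ⟨i, -, hi⟩ := (Nat.dvd_prime_pow Nat.prime_three).1
    (orderOf_dvd_of_pow_eq_one (congrArg Subtype.val hm : x ^ 3 ^ m = 1))
  rcases i with _ | i
  · exact absurd (orderOf_eq_one_iff.1 (by rw [hi, pow_zero])) hx1
  refine ⟨3 ^ i, ?_⟩
  rw [orderOf_pow_of_dvd (by positivity) (by rw [hi]; exact pow_dvd_pow 3 i.le_succ), hi, pow_succ,
    Nat.mul_div_cancel_left _ (by positivity)]

/-- Two 3-groups meeting the centraliser of each other's central element in `⟨z, d⟩` produce an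
element inverting `z`. -/
theorem exists_inverter [Finite G] {P R : Subgroup G} (hP : IsPGroup 3 P) (hR : IsPGroup 3 R)
    {z d : G} (hz : orderOf z = 3) (hd : orderOf d = 3) (hdz : d ∉ zpowers z)
    (hzP : z ∈ P) (hdP : d ∈ P) (hzR : z ∈ R) (hdR : d ∈ R)
    (hzc : ∀ x ∈ P, Commute x z) (hdc : ∀ x ∈ R, Commute x d)
    (hCd : ∀ x ∈ P, Commute x d → x ∈ zpowers z ⊔ zpowers d)
    (hCz : ∀ x ∈ R, Commute x z → x ∈ zpowers d ⊔ zpowers z)
    (hP9 : 9 < Nat.card P) (hR9 : 9 < Nat.card R) :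
    ∃ g : G, g * z * g⁻¹ = z⁻¹ ∧ g ∈ P ⊔ R := by
  haveI : Fact (Nat.Prime 3) := ⟨Nat.prime_three⟩
  -- normalising elements
  have key : ∀ (S : Subgroup G), IsPGroup 3 S → ∀ z d : G, orderOf z = 3 → orderOf d = 3 →
      d ∉ zpowers z → z ∈ S → d ∈ S → (∀ x ∈ S, Commute x z) →
      (∀ x ∈ S, Commute x d → x ∈ zpowers z ⊔ zpowers d) → 9 < Nat.card S →
      ∃ α ∈ S, α * z * α⁻¹ = z ∧ α * d * α⁻¹ = d * z := by
    intro S hS z d hz hd hdz hzS hdS hc hC h9
    have hzd : Commute z d := (hc d hdS).symm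
    have hE : zpowers z ⊔ zpowers d ≤ S := sup_le (zpowers_le.2 hzS) (zpowers_le.2 hdS)
    haveI := hS.isNilpotent
    have hlt : (zpowers z ⊔ zpowers d).subgroupOf S < ⊤ := by
      refine lt_top_iff_ne_top.2 fun e => ?_
      have h1 := Subgroup.card_le_of_le (Subgroup.subgroupOf_eq_top.1 e)
      rw [card_sup_three hz hd hzd (fun h => hdz (zpowers_le.1
        ((zpowers_eq_of_mem hd h (ne_one_of_orderOf_three hz)).ge)))] at h1
      omega
    obtain ⟨α, hα, hαE⟩ := SetLike.exists_of_lt (Group.normalizerCondition_of_isNilpotent _ hlt)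
    have hαd : (α : G) * d * (α : G)⁻¹ ∈ zpowers z ⊔ zpowers d := by
      have := (Subgroup.mem_normalizer_iff.1 hα (⟨d, hdS⟩ : S)).1
        (mem_subgroupOf.2 (mem_sup_right (mem_zpowers d)))
      exact mem_subgroupOf.1 this
    obtain ⟨i, s, his⟩ := mem_sup_three hz hd hzd hαd
    have hnE : (α : G) ∉ zpowers z ⊔ zpowers d := fun h => hαE (mem_subgroupOf.2 h)
    have hαz : (α : G) * z * (α : G)⁻¹ = z := by
      rw [(hc α α.2).eq, mul_inv_cancel_right]
    have hpow : (α : G) ^ 2 * d * ((α : G) ^ 2)⁻¹ =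
        (α : G) * ((α : G) * d * (α : G)⁻¹) * (α : G)⁻¹ := by rw [pow_two]; group
    have hαzi : ∀ k : ℕ, (α : G) * z ^ k * (α : G)⁻¹ = z ^ k := fun k => by rw [← conj_pow, hαz]
    have hnc : ¬ Commute (α : G) d := fun hcd => hnE (hC α α.2 hcd)
    have hnc2 : ¬ Commute ((α : G) ^ 2) d := by
      intro hcd
      obtain ⟨m, hm⟩ := hS α
      have hm' : (α : G) ^ 3 ^ m = 1 := congrArg Subtype.val hm
      obtain ⟨l, hl⟩ := (Odd.pow (show Odd 3 by decide) : Odd (3 ^ m))
      refine hnc ?_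
      have e : (α : G) = ((α : G) ^ 2) ^ (l + 1) := by
        rw [← pow_mul, show 2 * (l + 1) = 2 * l + 1 + 1 by ring, ← hl, pow_succ, hm', one_mul]
      rw [e]
      exact hcd.pow_left _
    have hz3 := mul_mul_eq_one hz
    have hd3 := mul_mul_eq_one hd
    match hs : (s : ℕ) with
    | 0 =>
      exfalso
      rw [hs, pow_zero, mul_one] at his
      refine hdz ?_
      have : d = (α : G)⁻¹ * z ^ (i : ℕ) * (α : G) := by rw [← his]; group
      rw [this, mul_assoc, ← ((hc α α.2).pow_right _).eq, inv_mul_cancel_left]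
      exact pow_mem (mem_zpowers z) _
    | 1 =>
      rw [hs, pow_one] at his
      match hi : (i : ℕ) with
      | 0 =>
        rw [hi, pow_zero, one_mul] at his
        exact absurd (mul_inv_eq_iff_eq_mul.1 his) hnc
      | 1 =>
        rw [hi, pow_one, hzd.eq] at his
        exact ⟨α, α.2, hαz, his⟩
      | 2 =>
        rw [hi] at his
        refine ⟨(α : G) ^ 2, pow_mem α.2 _, ?_, ?_⟩
        · rw [pow_two, mul_inv_rev, show (α : G) * α * z * ((α : G)⁻¹ * (α : G)⁻¹) =
            (α : G) * ((α : G) * z * (α : G)⁻¹) * (α : G)⁻¹ by group, hαz, hαz]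
        · rw [hpow, his, show (α : G) * (z ^ 2 * d) * (α : G)⁻¹ =
            ((α : G) * z ^ 2 * (α : G)⁻¹) * ((α : G) * d * (α : G)⁻¹) by group, hαzi, his,
            ← mul_assoc, ← pow_add, show z ^ (2 + 2) = z * z * z * z by simp [pow_succ, mul_assoc], hz3, one_mul, hzd.eq]
      | i' + 3 => exact absurd i.2 (by omega)
    | 2 =>
      exfalso
      rw [hs] at his
      refine hnc2 (mul_inv_eq_iff_eq_mul.1 ?_)
      rw [hpow, his, show (α : G) * (z ^ (i : ℕ) * d ^ 2) * (α : G)⁻¹ =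
          ((α : G) * z ^ (i : ℕ) * (α : G)⁻¹) * ((α : G) * d * (α : G)⁻¹) ^ 2 by
            rw [conj_pow]; group,
        hαzi, his, (hzd.pow_pow _ _).mul_pow, ← mul_assoc, ← pow_mul, ← pow_mul, ← pow_add,
        show (i : ℕ) + (i : ℕ) * 2 = 3 * (i : ℕ) by ring, pow_mul, pow_succ z 2, pow_two, hz3,
        one_pow, one_mul, show d ^ (2 * 2) = d * d * d * d by simp [pow_succ, mul_assoc], hd3, one_mul]
    | s' + 3 => exact absurd s.2 (by omega)
  have hne' : z ∉ zpowers d := fun h => hdz (zpowers_le.1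
    ((zpowers_eq_of_mem hd h (ne_one_of_orderOf_three hz)).ge))
  obtain ⟨α, hαP, hαz, hαd⟩ := key P hP z d hz hd hdz hzP hdP hzc hCd hP9
  obtain ⟨β, hβR, hβd, hβz⟩ := key R hR d z hd hz hne' hdR hzR hdc hCz hR9
  have hzd : Commute z d := (hzc d hdP).symm
  -- conjugation by `α`, `β * β`
  have hβ2 : β * β * z * (β * β)⁻¹ = z * d * d := by
    calc β * β * z * (β * β)⁻¹ = β * (β * z * β⁻¹) * β⁻¹ := by group
      _ = β * (z * d) * β⁻¹ := by rw [hβz]
      _ = (β * z * β⁻¹) * (β * d * β⁻¹) := by group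
      _ = z * d * d := by rw [hβz, hβd]
  have hβ2d : β * β * d * (β * β)⁻¹ = d := by
    calc β * β * d * (β * β)⁻¹ = β * (β * d * β⁻¹) * β⁻¹ := by group
      _ = d := by rw [hβd, hβd]
  set δ := α * (β * β) * α with hδ
  have hd3 := mul_mul_eq_one hd
  have hz3 := mul_mul_eq_one hz
  have hδz : δ * z * δ⁻¹ = d * d := by
    calc δ * z * δ⁻¹ = α * (β * β * (α * z * α⁻¹) * (β * β)⁻¹) * α⁻¹ := by rw [hδ]; group
      _ = α * (z * d * d) * α⁻¹ := by rw [hαz, hβ2]
      _ = α * z * α⁻¹ * ((α * d * α⁻¹) * (α * d * α⁻¹)) := by group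
      _ = d * d * (z * z * z) := by
        rw [hαz, hαd, show d * z * (d * z) = d * d * (z * z) by
          rw [mul_assoc d z, ← mul_assoc z d z, hzd.eq]; group, ← mul_assoc z,
          (hzd.mul_right hzd).eq]
        group
      _ = d * d := by rw [hz3, mul_one]
  have hδd : δ * d * δ⁻¹ = z := by
    calc δ * d * δ⁻¹ = α * (β * β * (α * d * α⁻¹) * (β * β)⁻¹) * α⁻¹ := by rw [hδ]; group
      _ = α * ((β * β * d * (β * β)⁻¹) * (β * β * z * (β * β)⁻¹)) * α⁻¹ := by rw [hαd]; group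
      _ = α * (d * (z * d * d)) * α⁻¹ := by rw [hβ2d, hβ2]
      _ = α * (z * (d * d * d)) * α⁻¹ := by
        rw [show d * (z * d * d) = (d * z) * d * d by group, ← hzd.eq]; group
      _ = z := by rw [hd3, mul_one, hαz]
  refine ⟨δ * δ, ?_, ?_⟩
  · calc δ * δ * z * (δ * δ)⁻¹ = δ * (δ * z * δ⁻¹) * δ⁻¹ := by group
      _ = (δ * d * δ⁻¹) * (δ * d * δ⁻¹) := by rw [hδz]; group
      _ = z⁻¹ := by rw [hδd]; exact (inv_eq_of_mul_eq_one_left hz3).symm
  · have hmem : δ ∈ P ⊔ R :=
      mul_mem (mul_mem (mem_sup_left hαP) (mem_sup_right (mul_mem hβR hβR))) (mem_sup_left hαP)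
    exact mul_mem hmem hmem

/-- Homomorphisms from a perfect group to commutative groups are trivial. -/
theorem hom_eq_one (hperf : commutator G = ⊤) {A : Type*} [CommGroup A] (φ : G →* A) (g : G) :
    φ g = 1 :=
  MonoidHom.mem_ker.1 (Abelianization.commutator_subset_ker φ (hperf ▸ Subgroup.mem_top g))

end group

section action

variable {G Ω : Type*} [Group G] [MulAction G Ω]

/-- The permutation induced on an invariant set. -/
def setPerm (F : Set Ω) : stabilizer G F →* Equiv.Perm F where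
  toFun g :=
    { toFun := fun c => ⟨(g : G) • (c : Ω), by
        have h := mem_stabilizer_iff.1 g.2
        rw [Set.ext_iff] at h
        exact (h _).1 (Set.smul_mem_smul_set c.2)⟩
      invFun := fun c => ⟨(g : G)⁻¹ • (c : Ω), by
        have h := mem_stabilizer_iff.1 (inv_mem g.2)
        rw [Set.ext_iff] at h
        exact (h _).1 (Set.smul_mem_smul_set c.2)⟩
      left_inv := fun c => Subtype.ext (inv_smul_smul _ _)
      right_inv := fun c => Subtype.ext (smul_inv_smul _ _) }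
  map_one' := Equiv.ext fun c => Subtype.ext (one_smul G (c : Ω))
  map_mul' g g' := Equiv.ext fun c => Subtype.ext (mul_smul (g : G) g' (c : Ω))

theorem setPerm_apply (F : Set Ω) (g : stabilizer G F) (c : F) :
    (setPerm F g c : Ω) = (g : G) • (c : Ω) := rfl

theorem setPerm_eq_one {F : Set Ω} {g : stabilizer G F} :
    setPerm F g = 1 ↔ ∀ c ∈ F, (g : G) • c = c :=
  ⟨fun h c hc => congrArg Subtype.val (Equiv.ext_iff.1 h ⟨c, hc⟩),
    fun h => Equiv.ext fun c => Subtype.ext (h c c.2)⟩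

theorem mem_stabilizer_of_fix {F : Set Ω} {g : G} (h : ∀ c ∈ F, g • c = c) : g ∈ stabilizer G F :=
  mem_stabilizer_iff.2 (by
    ext c
    rw [Set.mem_smul_set]
    exact ⟨fun ⟨d, hd, e⟩ => by rw [h d hd] at e; exact e ▸ hd, fun hc => ⟨c, hc, h c hc⟩⟩)

/-- Commuting elements preserve each other's fixed points. -/
theorem smul_fixedBy_of_commute {g x : G} (h : Commute g x) : g • fixedBy Ω x = fixedBy Ω x := by
  ext c
  rw [Set.mem_smul_set_iff_inv_smul_mem, mem_fixedBy, mem_fixedBy]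
  rw [smul_smul, ← h.inv_left.eq, mul_smul]
  exact smul_left_cancel_iff g⁻¹

theorem fixedBy_conj (g x : G) : fixedBy Ω (g * x * g⁻¹) = g • fixedBy Ω x := by
  ext c
  rw [Set.mem_smul_set_iff_inv_smul_mem, mem_fixedBy, mem_fixedBy, mul_smul, mul_smul,
    eq_inv_smul_iff]

variable (hodd : ∀ b : Ω, Odd (Nat.card (stabilizer G b)))
include hodd

theorem odd_orderOf {g : G} {b : Ω} (h : g • b = b) : Odd (orderOf g) :=
  (hodd b).of_dvd_nat (Subgroup.orderOf_dvd_natCard _ (mem_stabilizer_iff.2 h))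

variable {F : Set Ω} {n : ℕ} (hn : n = 3 ∨ n = 4) (e : F ≃ Fin n)
  {c : stabilizer G F} (hc3 : setPerm F c * setPerm F c * setPerm F c = 1)
  (hc1 : setPerm F c ≠ 1)
include hn e hc3 hc1

/-- A set of three or four points with a 3-cycle carries only even permutations. -/
theorem sign_eq_one (g : stabilizer G F) : Equiv.Perm.sign (e.permCongrHom (setPerm F g)) = 1 := by
  by_contra hs
  set τ := e.permCongrHom (setPerm F c) with hτ
  have hτ3 : τ * τ * τ = 1 := by rw [hτ, ← map_mul, ← map_mul, hc3, map_one]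
  have hτ1 : τ ≠ 1 := fun h => hc1 (e.permCongrHom.injective (h.trans (map_one _).symm))
  obtain ⟨k, h2, h1, i, hi⟩ : ∃ k : Fin 3,
      (e.permCongrHom (setPerm F g) * τ ^ (k : ℕ)) * (e.permCongrHom (setPerm F g) * τ ^ (k : ℕ)) = 1 ∧
      e.permCongrHom (setPerm F g) * τ ^ (k : ℕ) ≠ 1 ∧
      ∃ i, (e.permCongrHom (setPerm F g) * τ ^ (k : ℕ)) i = i := by
    rcases hn with rfl | rfl
    · exact odd_perm_three _ τ hτ3 hτ1 hs
    · exact odd_perm_four _ τ hτ3 hτ1 hs
  rw [hτ, ← map_pow, ← map_mul, ← map_pow, ← map_mul] at h2 h1 hi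
  set g' := g * c ^ (k : ℕ) with hg'
  rw [← map_mul] at h2
  have hfix : (g' : G) • (e.symm i : Ω) = e.symm i := by
    have h3 : setPerm F g' (e.symm i) = e.symm i := by
      have h4 : e (setPerm F g' (e.symm i)) = i := hi
      exact e.injective (h4.trans (e.apply_symm_apply i).symm)
    exact congrArg Subtype.val h3
  have hord : Odd (orderOf g') := by
    rw [← Subgroup.orderOf_coe]; exact odd_orderOf hodd hfix
  have h5 : setPerm F g' * setPerm F g' = 1 := e.permCongrHom.injective (h2.trans (map_one _).symm)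
  have h6 : orderOf (setPerm F g') = 1 := Nat.eq_one_of_dvd_coprimes (Nat.coprime_two_left.2 hord)
    (orderOf_dvd_of_pow_eq_one (by rw [pow_two]; exact h5)) (orderOf_map_dvd _ _)
  exact h1 (by rw [orderOf_eq_one_iff.1 h6, map_one])

/-- No element preserving the set inverts a centralised element of order three. -/
theorem no_inverter {g z : G} (hg : g ∈ stabilizer G F) (hz : orderOf z = 3)
    (hcz : Commute (c : G) z) (h : g * z * g⁻¹ = z⁻¹) : False := by

  set τ := e.permCongrHom (setPerm F c) with hτ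
  have hτ3 : τ * τ * τ = 1 := by rw [hτ, ← map_mul, ← map_mul, hc3, map_one]
  have hτ1 : τ ≠ 1 := fun h => hc1 (e.permCongrHom.injective (h.trans (map_one _).symm))
  obtain ⟨k, i, hi⟩ : ∃ k : Fin 3, ∃ i,
      (e.permCongrHom (setPerm F ⟨g, hg⟩) * τ ^ (k : ℕ)) i = i := by
    have hs := sign_eq_one hodd hn e hc3 hc1 ⟨g, hg⟩
    rcases hn with rfl | rfl
    · exact even_perm_three _ τ hτ3 hτ1 hs
    · exact even_perm_four _ τ hτ3 hτ1 hs
  rw [hτ, ← map_pow, ← map_mul, ← map_pow, ← map_mul] at hi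
  set g' := (⟨g, hg⟩ : stabilizer G F) * c ^ (k : ℕ) with hg'
  have hfix : (g' : G) • (e.symm i : Ω) = e.symm i := by
    have h3 : setPerm F g' (e.symm i) = e.symm i :=
      e.injective ((hi : e (setPerm F g' (e.symm i)) = i).trans (e.apply_symm_apply i).symm)
    exact congrArg Subtype.val h3
  refine no_odd_inverter (odd_orderOf hodd hfix) hz ?_
  rw [hg', Subgroup.coe_mul, SubgroupClass.coe_pow]
  show g * (c : G) ^ (k : ℕ) * z * (g * (c : G) ^ (k : ℕ))⁻¹ = z⁻¹
  rw [mul_assoc g, (hcz.pow_left _).eq]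
  refine Eq.trans ?_ h
  group

/-- A homomorphism of the set stabiliser to a group of order three that is nontrivial on `c`. -/
theorem exists_hom : ∃ ψ : stabilizer G F →* Multiplicative (ZMod 3), ψ c ≠ 1 := by
  have hs := sign_eq_one hodd hn e hc3 hc1
  have hτ3 : e.permCongrHom (setPerm F c) * e.permCongrHom (setPerm F c) *
      e.permCongrHom (setPerm F c) = 1 := by rw [← map_mul, ← map_mul, hc3, map_one]
  have hτ1 : e.permCongrHom (setPerm F c) ≠ 1 := fun h =>
    hc1 (e.permCongrHom.injective (h.trans (map_one _).symm))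
  refine ⟨MonoidHom.mk' (fun g => Multiplicative.ofAdd (chi (e.permCongrHom (setPerm F g))))
    fun g g' => ?_, fun h => ?_⟩
  · rw [← ofAdd_add, map_mul, map_mul]
    congr 1
    rcases hn with rfl | rfl
    · exact chi_mul_three _ _ (hs g) (hs g')
    · exact chi_mul_four _ _ (hs g) (hs g')
  · have h0 : chi (e.permCongrHom (setPerm F c)) = 0 := Multiplicative.ofAdd.injective h
    rcases hn with rfl | rfl
    · exact chi_cycle_three _ hτ3 hτ1 h0
    · exact chi_cycle_four _ hτ3 hτ1 h0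

end action

end CfsgLib.Perm.FixityFour.OddPart
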