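import Cfsg.Agent.Lib.Perm.FixityFour.OddPart.Tools
import Cfsg.Agent.Lib.PGroup.Kulakoff
import Cfsg.Agent.Lib.Sporadic.J3Type.Transfer

/-!
# Two transfer lemmas at the prime three

Transfer at an element of order three into a group of exponent three, localised at a commuting
element; and an element of a Sylow 3-subgroup with centraliser of order nine.
-/

set_option autoImplicit false
set_option linter.style.haveILetI false

namespace CfsgLib.Perm.FixityFour.OddPart

open MulAction Subgroup
open scoped commutatorElement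

variable {G : Type*} [Group G] [Finite G]

/-- If only the base coset is fixed by both `u` and `v`, the transfer of `u` is its image. -/
theorem transfer_eq_of_only {H : Subgroup G} {A : Type*} [CommGroup A] [Finite A]
    (hA : ∀ a : A, a ^ 3 = 1) (ϕ : H →* A) {u v : G} (hu : orderOf u = 3) (hv : orderOf v = 3)
    (huv : Commute u v) (huH : u ∈ H) (hvH : v ∈ H)
    (only : ∀ g : G, g⁻¹ * u * g ∈ H → g⁻¹ * v * g ∈ H → g ∈ H) :
    MonoidHom.transfer ϕ u = ϕ ⟨u, huH⟩ := by
  classical
  haveI : Fact (Nat.Prime 3) := ⟨Nat.prime_three⟩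
  haveI := Fintype.ofFinite (G ⧸ H)
  haveI := Fintype.ofFinite A
  let f : G → A := fun x => if hx : x ∈ H then ϕ ⟨x, hx⟩ else 1
  rw [CfsgLib.Sporadic.J3Type.transfer_prime H ϕ Nat.prime_three
    (by rw [← hu, pow_orderOf_eq_one]) f fun g h => dif_pos h]
  have hfixH : ∀ (x : G) (q : G ⧸ H), x • q = q ↔ q.out⁻¹ * x * q.out ∈ H := fun x q => by
    conv_lhs => rw [← Quotient.out_eq q]
    show ((x * q.out : G) : G ⧸ H) = (q.out : G ⧸ H) ↔ _
    rw [eq_comm, QuotientGroup.eq, mul_assoc]
  -- conjugation by an element of `H` does not change `f`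
  have hinv : ∀ x h : G, h ∈ H → f (h⁻¹ * x * h) = f x := fun x h hh => by
    by_cases hx : x ∈ H
    · simp only [f, dif_pos hx, dif_pos (mul_mem (mul_mem (inv_mem hh) hx) hh)]
      rw [show (⟨h⁻¹ * x * h, mul_mem (mul_mem (inv_mem hh) hx) hh⟩ : H) = ⟨h, hh⟩⁻¹ * ⟨x, hx⟩ * ⟨h, hh⟩
        from rfl, map_mul, map_mul, map_inv, mul_comm (ϕ ⟨h, hh⟩)⁻¹, inv_mul_cancel_right]
    · have hx' : h⁻¹ * x * h ∉ H := fun h' => hx (by
        have := mul_mem (mul_mem hh h') (inv_mem hh)
        rwa [show h * (h⁻¹ * x * h) * h⁻¹ = x by group] at this)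
      simp only [f, dif_neg hx, dif_neg hx']
  let F : G ⧸ H → A := fun q => f (q.out⁻¹ * u * q.out)
  have hFv : ∀ q, F (v • q) = F q := fun q => by
    have hrep : (v • q).out⁻¹ * (v * q.out) ∈ H := by
      rw [← QuotientGroup.eq, QuotientGroup.out_eq']
      conv_lhs => rw [← Quotient.out_eq q]
      rfl
    set k := (v • q).out⁻¹ * (v * q.out) with hk
    have e : (v • q).out = v * q.out * k⁻¹ := by rw [hk]; group
    show f ((v • q).out⁻¹ * u * (v • q).out) = f (q.out⁻¹ * u * q.out)
    rw [e, show (v * q.out * k⁻¹)⁻¹ * u * (v * q.out * k⁻¹) =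
      k⁻¹⁻¹ * (q.out⁻¹ * (v⁻¹ * u * v) * q.out) * k⁻¹ by group, hinv _ _ (inv_mem hrep),
      mul_assoc v⁻¹, huv.eq, inv_mul_cancel_left]
  set X := Finset.univ.filter fun q : G ⧸ H => u • q = q with hX
  have hX' : ∀ q, q ∈ X → v • q ∈ X := fun q hq => by
    simp only [hX, Finset.mem_filter, Finset.mem_univ, true_and] at hq ⊢
    rw [smul_smul, huv.eq, mul_smul, hq]
  have hbase : ((1 : G) : G ⧸ H) ∈ X ∧ v • ((1 : G) : G ⧸ H) = ((1 : G) : G ⧸ H) ∧
      F ((1 : G) : G ⧸ H) = ϕ ⟨u, huH⟩ := by
    have hb : ∀ x ∈ H, x • ((1 : G) : G ⧸ H) = ((1 : G) : G ⧸ H) := fun x hx => by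
      show ((x * 1 : G) : G ⧸ H) = _
      rw [eq_comm, QuotientGroup.eq]; simpa using hx
    refine ⟨by simp [hX, hb u huH], hb v hvH, ?_⟩
    have ho : ((1 : G) : G ⧸ H).out ∈ H := by
      have h1 := QuotientGroup.eq.1 (QuotientGroup.out_eq' ((1 : G) : G ⧸ H))
      simpa using h1
    show f _ = _
    rw [hinv u _ ho]
    exact dif_pos huH
  -- each fibre has the size of its fixed part modulo three
  have key : ∀ a : A, (X.filter fun q => F q = a).card % 3 = if a = ϕ ⟨u, huH⟩ then 1 else 0 := by
    intro a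
    let T : SubMulAction (zpowers v) (G ⧸ H) :=
      { carrier := {q | q ∈ X ∧ F q = a}
        smul_mem' := fun g q hq => by
          have hpow : ∀ n : ℕ, v ^ n • q ∈ X ∧ F (v ^ n • q) = a := fun n => by
            induction n with
            | zero => simpa using hq
            | succ n ih => rw [pow_succ', mul_smul]; exact ⟨hX' _ ih.1, by rw [hFv]; exact ih.2⟩
          obtain ⟨n, hn⟩ := (mem_zpowers_iff_mem_range_orderOf.1 g.2) |> Finset.mem_image.1
          show (g : G) • q ∈ X ∧ F ((g : G) • q) = a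
          rw [← hn.2]
          exact hpow n }
    have hT3 : IsPGroup 3 (zpowers v) := IsPGroup.of_card (n := 1) (by rw [Nat.card_zpowers, hv, pow_one])
    have h1 : Nat.card T ≡ Nat.card (fixedPoints (zpowers v) T) [MOD 3] := hT3.card_modEq_card_fixedPoints T
    have hcardT : Nat.card T = (X.filter fun q => F q = a).card := by
      show Nat.card ↑{q | q ∈ X ∧ F q = a} = _
      rw [← Nat.card_eq_finsetCard]
      exact Nat.card_congr (Equiv.subtypeEquivRight fun q => by simp)
    have hfix : ∀ q : T, q ∈ fixedPoints (zpowers v) T → (q : G ⧸ H) = ((1 : G) : G ⧸ H) := by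
      intro q hq
      have hvq : v • (q : G ⧸ H) = q := congrArg Subtype.val (hq ⟨v, mem_zpowers v⟩)
      have huq : u • (q : G ⧸ H) = q := (Finset.mem_filter.1 q.2.1).2
      have hmem := only _ ((hfixH u _).1 huq) ((hfixH v _).1 hvq)
      conv_lhs => rw [← QuotientGroup.out_eq' (q : G ⧸ H)]
      rw [QuotientGroup.eq]
      simpa using hmem
    rw [← hcardT, h1]
    split_ifs with ha
    · have hmem : ((1 : G) : G ⧸ H) ∈ T := ⟨hbase.1, hbase.2.2.trans ha.symm⟩
      have hfixed : (⟨_, hmem⟩ : T) ∈ fixedPoints (zpowers v) T := fun g => Subtype.ext (by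
        obtain ⟨i, hi⟩ := mem_zpowers_iff.1 g.2
        show (g : G) • ((1 : G) : G ⧸ H) = _
        rw [← hi]
        exact mem_stabilizer_iff.1 (zpow_mem (mem_stabilizer_iff.2 hbase.2.1) i))
      have : Nat.card (fixedPoints (zpowers v) T) = 1 := Nat.card_eq_one_iff_unique.2
        ⟨⟨fun p p' => Subtype.ext (Subtype.ext ((hfix _ p.2).trans (hfix _ p'.2).symm))⟩, ⟨⟨_, hfixed⟩⟩⟩
      rw [this]
    · have : IsEmpty (fixedPoints (zpowers v) T) := ⟨fun p => ha (by
        have h2 := p.1.2.2
        rw [hfix _ p.2, hbase.2.2] at h2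
        exact h2.symm)⟩
      rw [Nat.card_of_isEmpty]
  show ∏ q ∈ X, F q = _
  rw [← Finset.prod_fiberwise X F F,
    Finset.prod_congr rfl fun a _ => (Finset.prod_congr rfl fun q hq => (Finset.mem_filter.1 hq).2)]
  simp only [Finset.prod_const]
  rw [Finset.prod_congr rfl fun a _ => (show a ^ (X.filter fun q => F q = a).card =
    a ^ (if a = ϕ ⟨u, huH⟩ then 1 else 0) by rw [← key a, pow_eq_pow_mod _ (hA a)])]
  simp only [pow_ite, pow_one, pow_zero, Finset.prod_ite_eq', Finset.mem_univ, if_true]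

/-- A perfect group has no element of order three with centraliser of order nine in a larger Sylow
3-subgroup, 3-part nine in the whole centraliser, and not conjugate to its inverse. -/
theorem three_transfer (hperf : commutator G = ⊤) (P : Sylow 3 G) (hP : 27 ∣ Nat.card P) {w : G}
    (hwP : w ∈ (P : Subgroup G)) (hw : orderOf w = 3)
    (hC9 : Nat.card ↥((P : Subgroup G) ⊓ centralizer {w}) = 9)
    (h27 : ¬ 27 ∣ Nat.card ↥(centralizer ({w} : Set G)))
    (hreal : ¬ IsConj w w⁻¹) : False := by
  classical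
  haveI : Fact (Nat.Prime 3) := ⟨Nat.prime_three⟩
  set p : Subgroup G := (P : Subgroup G) with hp
  have hp3 : IsPGroup 3 p := P.isPGroup'
  have hconjC : ∀ x : G, IsConj w x →
      Nat.card ↥(centralizer ({x} : Set G)) = Nat.card ↥(centralizer ({w} : Set G)) := by
    intro x hx
    obtain ⟨g, rfl⟩ := isConj_iff.1 hx
    exact (Nat.card_congr
      { toFun := fun y => ⟨g * y * g⁻¹, mem_centralizer_singleton_iff.2 (by
          rw [show g * y * g⁻¹ * (g * w * g⁻¹) = g * ((y : G) * w) * g⁻¹ by group,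
            mem_centralizer_singleton_iff.1 y.2]; group)⟩
        invFun := fun y => ⟨g⁻¹ * y * g, mem_centralizer_singleton_iff.2 (by
          rw [show g⁻¹ * (y : G) * g * w = g⁻¹ * ((y : G) * (g * w * g⁻¹)) * g by group,
            mem_centralizer_singleton_iff.1 y.2]; group)⟩
        left_inv := fun y => Subtype.ext (by simp [mul_assoc])
        right_inv := fun y => Subtype.ext (by simp [mul_assoc]) :
        ↥(centralizer ({w} : Set G)) ≃ ↥(centralizer ({g * w * g⁻¹} : Set G)) }).symm
  -- the derived subgroup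
  haveI : Finite p := inferInstance
  have hnc : ¬ IsCyclic p := fun hc => by
    have hle : p ≤ p ⊓ centralizer {w} := fun x hx => Subgroup.mem_inf.2 ⟨hx,
      mem_centralizer_singleton_iff.2 (congrArg Subtype.val
        ((IsMulCommutative.is_comm (M := p)).comm ⟨x, hx⟩ ⟨w, hwP⟩))⟩
    have h1 := Subgroup.card_le_of_le hle
    have h2 := Nat.le_of_dvd Nat.card_pos hP
    rw [hC9] at h1
    exact absurd (h2.trans h1) (by omega)
  have hD9 : 9 ≤ (commutator p).index := by
    have := CfsgLib.PGroup.Kulakoff.sq_le_commutator_index hp3 hnc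
    simpa using this
  set D := commutator p with hD
  -- elements of `p` conjugate to `w`
  have hcent : ∀ u : p, IsConj w u → Nat.card ↥(centralizer ({u} : Set p)) = 9 := by
    intro u hu
    have hmap : (centralizer ({u} : Set p)).map p.subtype ≤ centralizer {(u : G)} := by
      rintro _ ⟨x, hx, rfl⟩
      exact mem_centralizer_singleton_iff.2 (congrArg Subtype.val (mem_centralizer_singleton_iff.1 hx))
    have hcard : Nat.card ↥((centralizer ({u} : Set p)).map p.subtype) =
        Nat.card ↥(centralizer ({u} : Set p)) :=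
      Subgroup.card_map_of_injective p.subtype_injective
    have hdvd := Subgroup.card_dvd_of_le hmap
    rw [hcard, hconjC _ hu] at hdvd
    obtain ⟨i, hi⟩ := (hp3.to_subgroup (centralizer ({u} : Set p))).exists_card_eq
    have hlt : i < 3 := by
      by_contra hi3
      exact h27 ((show 27 ∣ 3 ^ i by
        exact (show (27 : ℕ) = 3 ^ 3 by norm_num) ▸ pow_dvd_pow 3 (by omega)).trans (hi ▸ hdvd))
    -- a central element gives nine
    haveI : Nontrivial p := ⟨⟨⟨w, hwP⟩, 1, fun e => ne_one_of_orderOf_three hw (congrArg Subtype.val e)⟩⟩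
    haveI := hp3.center_nontrivial
    obtain ⟨c, hc⟩ := exists_prime_orderOf_dvd_card' (G := center p) 3 (by
      obtain ⟨k, hk0, hk⟩ := (hp3.to_subgroup (center p)).nontrivial_iff_card.1 inferInstance
      exact hk ▸ dvd_pow_self 3 (by omega))
    have hco : orderOf (c : p) = 3 := by rw [Subgroup.orderOf_coe, hc]
    have huo : orderOf u = 3 := by
      rw [← Subgroup.orderOf_coe]
      obtain ⟨g, hg⟩ := isConj_iff.1 hu
      rw [← hg]
      exact (orderOf_injective (MulAut.conj g).toMonoidHom (MulAut.conj g).injective w).trans hw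
    have huc : u ∉ zpowers (c : p) := fun hmem => by
      have h1 : centralizer ({u} : Set p) = ⊤ := (eq_top_iff' _).2 fun x =>
        mem_centralizer_singleton_iff.2 (mem_center_iff.1 (zpowers_le.2 c.2 hmem) x)
      rw [h1, Subgroup.card_top] at hi
      rw [hi] at hP
      have h3 := Nat.le_of_dvd (by positivity) hP
      interval_cases i <;> simp at h3
    have hle : zpowers u ⊔ zpowers (c : p) ≤ centralizer {u} :=
      sup_le (zpowers_le.2 (mem_centralizer_singleton_iff.2 rfl))
        (zpowers_le.2 (mem_centralizer_singleton_iff.2 (mem_center_iff.1 c.2 u).symm))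
    have h9 := Subgroup.card_le_of_le hle
    rw [card_sup_three huo hco (mem_center_iff.1 c.2 u) huc, hi] at h9
    rw [hi]
    interval_cases i <;> simp_all
  -- classes of such elements are cosets of `D`
  have hclass : ∀ u : p, IsConj w u → D.index = 9 ∧
      ∀ x : p, u⁻¹ * x ∈ D → ∃ g : p, g * u * g⁻¹ = x := by
    intro u hu
    let cl : Set p := {x | ∃ g : p, g * u * g⁻¹ = x}
    have hcl : Nat.card cl * 9 = Nat.card p := by
      have hsurj : Nat.card cl = Nat.card (p ⧸ centralizer ({u} : Set p)) := by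
        symm
        refine Nat.card_eq_of_bijective (Quotient.lift (fun g : p => (⟨g * u * g⁻¹, g, rfl⟩ : cl))
          fun a b hab => ?_) ⟨?_, ?_⟩
        · have h1 := mem_centralizer_singleton_iff.1 (QuotientGroup.leftRel_apply.1 hab)
          refine Subtype.ext ?_
          calc a * u * a⁻¹ = a * (u * (a⁻¹ * b)) * b⁻¹ := by group
            _ = b * u * b⁻¹ := by rw [← h1]; group
        · intro a b
          induction a using QuotientGroup.induction_on with | _ a =>
          induction b using QuotientGroup.induction_on with | _ b =>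
          intro e
          have e' : a * u * a⁻¹ = b * u * b⁻¹ := congrArg Subtype.val e
          rw [QuotientGroup.eq, mem_centralizer_singleton_iff]
          calc a⁻¹ * b * u = a⁻¹ * (b * u * b⁻¹) * b := by group
            _ = u * (a⁻¹ * b) := by rw [← e']; group
        · rintro ⟨x, g, rfl⟩
          exact ⟨(g : p ⧸ _), rfl⟩
      rw [hsurj, ← hcent u hu, ← Subgroup.card_eq_card_quotient_mul_card_subgroup]
    have hsub : cl ⊆ (fun d => u * d) '' (D : Set p) := by
      rintro _ ⟨g, rfl⟩
      refine ⟨u⁻¹ * g * u * g⁻¹, ?_, by group⟩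
      rw [SetLike.mem_coe, hD, show u⁻¹ * g * u * g⁻¹ = ⁅u⁻¹, g⁆ by rw [commutatorElement_def, inv_inv]]
      exact commutator_mem_commutator (mem_top _) (mem_top _)
    have hle := Set.ncard_le_ncard hsub (Set.toFinite _)
    rw [Set.ncard_image_of_injective _ (mul_right_injective u), ← Nat.card_coe_set_eq,
      ← Nat.card_coe_set_eq, SetLike.coe_sort_coe] at hle
    have hidx := D.card_mul_index
    have hi9 : D.index = 9 := by
      refine le_antisymm ?_ hD9
      refine Nat.le_of_mul_le_mul_left ?_ (Nat.card_pos : 0 < Nat.card D)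
      rw [hidx, ← hcl]; omega
    refine ⟨hi9, fun x hx => ?_⟩
    have hcard : Nat.card cl = Nat.card D := by rw [hi9] at hidx; omega
    have heq : cl = (fun d => u * d) '' (D : Set p) := Set.eq_of_subset_of_ncard_le hsub (by
      rw [Set.ncard_image_of_injective _ (mul_right_injective u), ← Nat.card_coe_set_eq,
        ← Nat.card_coe_set_eq, SetLike.coe_sort_coe, hcard]) (Set.toFinite _)
    have : x ∈ cl := heq ▸ ⟨_, hx, mul_inv_cancel_left u x⟩
    exact this
  have hwconj : IsConj w ((⟨w, hwP⟩ : p) : G) := IsConj.refl w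
  have hD : D.index = 9 := (hclass ⟨w, hwP⟩ hwconj).1
  -- the abelian quotient
  letI : CommGroup (p ⧸ D) := Abelianization.commGroup p
  have hA9 : Nat.card (p ⧸ D) = 9 := hD
  have hexp : ∀ a : p ⧸ D, a ^ 3 = 1 := by
    intro a
    by_contra ha
    have ho : orderOf a = 9 := by
      have h1 : orderOf a ∣ 3 ^ 2 := by
        rw [show (3 : ℕ) ^ 2 = 9 by norm_num, ← hA9]; exact orderOf_dvd_natCard a
      obtain ⟨i, hi, hai⟩ := (Nat.dvd_prime_pow Nat.prime_three).1 h1
      interval_cases i
      · exact absurd (show a ^ 3 = 1 by rw [orderOf_eq_one_iff.1 (show orderOf a = 1 by rw [hai, pow_zero]), one_pow]) ha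
      · exact absurd (by rw [← pow_one 3, ← hai, pow_orderOf_eq_one]) ha
      · simpa using hai
    obtain ⟨g, rfl⟩ := QuotientGroup.mk_surjective a
    refine hnc ⟨g, fun x => ?_⟩
    have hsup : zpowers g ⊔ frattini p = ⊤ := by
      refine top_le_iff.1 fun y _ => ?_
      have hy : ((y : p) : p ⧸ D) ∈ zpowers (g : p ⧸ D) := by
        rw [show zpowers (g : p ⧸ D) = ⊤ from eq_top_of_card_eq _ (by rw [Nat.card_zpowers, ho, hA9])]
        exact mem_top _
      obtain ⟨i, hi⟩ := mem_zpowers_iff.1 hy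
      have hd : (g ^ i)⁻¹ * y ∈ D := QuotientGroup.eq.1 ((QuotientGroup.mk_zpow D g i).trans hi)
      rw [show y = g ^ i * ((g ^ i)⁻¹ * y) by group]
      exact mul_mem (mem_sup_left (zpow_mem (mem_zpowers g) i))
        (mem_sup_right (CfsgLib.PGroup.Kulakoff.commutator_le_frattini hp3 hd))
    show x ∈ zpowers g
    rw [frattini_nongenerating hsup]
    exact mem_top x
  let π : p →* p ⧸ D := QuotientGroup.mk' D
  -- conjugates of `w` in `p` and their images
  let S : Set p := {x | IsConj w x}
  haveI := Fintype.ofFinite (p ⧸ D)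
  let J : Finset (p ⧸ D) := Finset.univ.filter fun a => ∃ x : p, IsConj w x ∧ π x = a
  have hmemS : ∀ x : p, π x ∈ J → IsConj w x := by
    intro x hx
    obtain ⟨y, hy, hyx⟩ := (Finset.mem_filter.1 hx).2
    obtain ⟨g, rfl⟩ := (hclass y hy).2 x (QuotientGroup.eq.1 hyx)
    exact hy.trans (isConj_iff.2 ⟨g, rfl⟩)
  have hS : Nat.card S = J.card * Nat.card D := by
    rw [← Nat.card_eq_finsetCard, ← Nat.card_prod]
    choose s hs using fun a : p ⧸ D => QuotientGroup.mk_surjective a
    refine (Nat.card_eq_of_bijective (fun q : J × D => (⟨s q.1 * q.2, hmemS _ (by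
      rw [map_mul, show π (q.2 : p) = 1 from (QuotientGroup.eq_one_iff _).2 q.2.2, mul_one,
        show π (s q.1) = q.1 from hs _]
      exact q.1.2)⟩ : S)) ⟨?_, ?_⟩).symm
    · rintro ⟨a, d⟩ ⟨a', d'⟩ e
      have e' : s a * d = s a' * d' := congrArg Subtype.val e
      have h1 := congrArg π e'
      rw [map_mul, map_mul, show π (d : p) = 1 from (QuotientGroup.eq_one_iff _).2 d.2,
        show π (d' : p) = 1 from (QuotientGroup.eq_one_iff _).2 d'.2, mul_one, mul_one,
        show π (s a) = a from hs _, show π (s a') = a' from hs _] at h1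
      obtain rfl := Subtype.ext h1
      exact Prod.ext rfl (Subtype.ext (mul_left_cancel e'))
    · rintro ⟨x, hx⟩
      refine ⟨(⟨π x, Finset.mem_filter.2 ⟨Finset.mem_univ _, x, hx, rfl⟩⟩,
        ⟨(s (π x))⁻¹ * x, QuotientGroup.eq.1 (hs (π x))⟩), Subtype.ext (mul_inv_cancel_left _ x)⟩
  -- `J` omits the identity and inverses
  have hJ1 : (1 : p ⧸ D) ∉ J := by
    intro h1
    have hconj1 := hmemS 1 (by rwa [map_one])
    rw [OneMemClass.coe_one] at hconj1
    exact ne_one_of_orderOf_three hw (isConj_one_left.1 hconj1)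
  have hJinv : ∀ a ∈ J, a⁻¹ ∉ J := by
    intro a ha ha'
    obtain ⟨x, hx, rfl⟩ := (Finset.mem_filter.1 ha).2
    have hx' : IsConj w ((x⁻¹ : p) : G) := hmemS x⁻¹ (by rwa [map_inv])
    refine hreal ?_
    obtain ⟨g, hg⟩ := isConj_iff.1 hx
    have h1 : IsConj w⁻¹ ((x⁻¹ : p) : G) :=
      isConj_iff.2 ⟨g, by rw [Subgroup.coe_inv, ← hg]; group⟩
    exact hx'.trans h1.symm
  -- `J` has size prime to three
  have hJ3 : ¬ 3 ∣ J.card := by
    intro h3
    let Cl : Set G := {x | IsConj w x}
    have hCl : Nat.card Cl * Nat.card ↥(centralizer ({w} : Set G)) = Nat.card G := by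
      have hsurj : Nat.card Cl = Nat.card (G ⧸ centralizer ({w} : Set G)) := by
        symm
        refine Nat.card_eq_of_bijective (Quotient.lift (fun g : G =>
          (⟨g * w * g⁻¹, isConj_iff.2 ⟨g, rfl⟩⟩ : Cl)) fun a b hab => ?_) ⟨?_, ?_⟩
        · have h1 := mem_centralizer_singleton_iff.1 (QuotientGroup.leftRel_apply.1 hab)
          refine Subtype.ext ?_
          calc a * w * a⁻¹ = a * (w * (a⁻¹ * b)) * b⁻¹ := by group
            _ = b * w * b⁻¹ := by rw [← h1]; group
        · intro a b
          induction a using QuotientGroup.induction_on with | _ a =>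
          induction b using QuotientGroup.induction_on with | _ b =>
          intro e
          have e' : a * w * a⁻¹ = b * w * b⁻¹ := congrArg Subtype.val e
          rw [QuotientGroup.eq, mem_centralizer_singleton_iff]
          calc a⁻¹ * b * w = a⁻¹ * (b * w * b⁻¹) * b := by group
            _ = w * (a⁻¹ * b) := by rw [← e']; group
        · rintro ⟨x, hx⟩
          obtain ⟨g, rfl⟩ := isConj_iff.1 hx
          exact ⟨(g : G ⧸ _), rfl⟩
      rw [hsurj, ← Subgroup.card_eq_card_quotient_mul_card_subgroup]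
    -- the part outside `p`
    letI : MulAction p G := MulAction.compHom G (ConjAct.toConjAct.toMonoidHom.comp p.subtype)
    have hsmul : ∀ (g : p) (x : G), g • x = g * x * (g : G)⁻¹ := fun g x => ConjAct.smul_def _ _
    let Out : SubMulAction p G :=
      { carrier := {x | IsConj w x ∧ x ∉ p}
        smul_mem' := fun g x hx => by
          rw [Set.mem_setOf_eq, hsmul]
          exact ⟨hx.1.trans (isConj_iff.2 ⟨g, rfl⟩), fun h => hx.2 (by
            have := mul_mem (mul_mem (inv_mem g.2) h) g.2
            rwa [show (g : G)⁻¹ * (g * x * (g : G)⁻¹) * g = x by group] at this)⟩ }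
    obtain ⟨m, hm⟩ := hp3.exists_card_eq
    have hm3 : 3 ≤ m := by
      by_contra hh
      rw [hm] at hP
      have h3 := Nat.le_of_dvd (by positivity) hP
      interval_cases m <;> simp at h3
    have hDcard : Nat.card D = 3 ^ (m - 2) := by
      have h1 := D.card_mul_index
      rw [hD, hm, show 3 ^ m = 3 ^ (m - 2) * 9 by
        rw [show (9 : ℕ) = 3 ^ 2 by norm_num, ← pow_add, Nat.sub_add_cancel (by omega)]] at h1
      exact Nat.eq_of_mul_eq_mul_right (by norm_num) h1
    have hout : 3 ^ (m - 1) ∣ Nat.card Out := by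
      haveI := Fintype.ofFinite (orbitRel.Quotient p Out)
      rw [Nat.card_congr (selfEquivSigmaOrbits p Out), Nat.card_sigma]
      refine Finset.dvd_sum fun o _ => ?_
      set x : Out := o.out
      obtain ⟨i, hi⟩ := (hp3.to_subgroup (stabilizer p x)).exists_card_eq
      have hstab : (stabilizer p x).map p.subtype ≤ centralizer {(x : G)} := by
        rintro _ ⟨g, hg, rfl⟩
        have h1 : ((g • x : Out) : G) = x := congrArg Subtype.val (mem_stabilizer_iff.1 hg)
        rw [SetLike.val_smul, hsmul] at h1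
        exact mem_centralizer_singleton_iff.2 (mul_inv_eq_iff_eq_mul.1 h1)
      -- adjoining `x` enlarges the 3-group
      set R := (stabilizer p x).map p.subtype with hR
      have hxC : (x : G) ∈ centralizer {(x : G)} := mem_centralizer_singleton_iff.2 rfl
      have hxo : orderOf (x : G) = 3 := by
        obtain ⟨g, hg⟩ := isConj_iff.1 x.2.1
        rw [← hg]
        exact (orderOf_injective (MulAut.conj g).toMonoidHom (MulAut.conj g).injective w).trans hw
      have hsupC : R ⊔ zpowers (x : G) ≤ centralizer {(x : G)} := sup_le hstab (zpowers_le.2 hxC)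
      have hsup3 : IsPGroup 3 ↥(R ⊔ zpowers (x : G)) := by
        refine IsPGroup.to_sup_of_normal_right' ((hp3.to_subgroup _).map _)
          (IsPGroup.of_card (n := 1) (by rw [Nat.card_zpowers, hxo, pow_one])) ?_
        refine hstab.trans fun g hg => mem_normalizer_iff.2 fun y => ?_
        have hgx : Commute g (x : G) := mem_centralizer_singleton_iff.1 hg
        constructor
        · intro hy
          obtain ⟨k, rfl⟩ := mem_zpowers_iff.1 hy
          rw [(hgx.zpow_right k).eq, mul_inv_cancel_right]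
          exact zpow_mem (mem_zpowers _) k
        · intro hy
          obtain ⟨k, hk⟩ := mem_zpowers_iff.1 hy
          have : y = (x : G) ^ k := by
            rw [show y = g⁻¹ * (g * y * g⁻¹) * g by group, ← hk, mul_assoc, ← (hgx.zpow_right k).eq,
              inv_mul_cancel_left]
          rw [this]
          exact zpow_mem (mem_zpowers _) k
      obtain ⟨l, hl⟩ := hsup3.exists_card_eq
      have hl3 : l < 3 := by
        by_contra hl'
        refine h27 ?_
        have h1 := Subgroup.card_dvd_of_le hsupC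
        rw [hconjC _ x.2.1, hl] at h1
        exact ((show (27 : ℕ) = 3 ^ 3 by norm_num) ▸ pow_dvd_pow 3 (by omega : 3 ≤ l)).trans h1
      have hil : i < l := by
        have hne : R ≠ R ⊔ zpowers (x : G) := fun e => x.2.2 (by
          obtain ⟨g, -, hgx⟩ := (e ▸ mem_sup_right (mem_zpowers (x : G)) : (x : G) ∈ R)
          exact hgx ▸ g.2)
        have h2 : Nat.card R = 3 ^ i := by
          rw [hR, Subgroup.card_map_of_injective p.subtype_injective, hi]
        by_contra hge
        exact hne (Subgroup.eq_of_le_of_card_ge le_sup_left (by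
          rw [hl, h2]; exact Nat.pow_le_pow_right (by norm_num) (by omega)))
      have horb := (stabilizer p x).card_mul_index
      rw [hi, hm, index_stabilizer, ← Nat.card_coe_set_eq] at horb
      have h3 : 3 ^ i * 3 ^ (m - i) = 3 ^ m := by rw [← pow_add]; congr 1; omega
      rw [Nat.eq_of_mul_eq_mul_left (by positivity) (horb.trans h3.symm)]
      exact pow_dvd_pow 3 (by omega)
    have hsplit : Nat.card Cl = Nat.card S + Nat.card Out := by
      have hS' : Nat.card S = Nat.card ↑(Cl ∩ (p : Set G)) := by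
        rw [← Nat.card_image_of_injective p.subtype_injective S]
        congr 2
        ext x
        exact ⟨fun ⟨y, hy, e⟩ => e ▸ ⟨hy, y.2⟩, fun ⟨h1, h2⟩ => ⟨⟨x, h2⟩, h1, rfl⟩⟩
      rw [hS', show Nat.card Out = Nat.card ↑(Cl \ (p : Set G)) from rfl, Nat.card_coe_set_eq,
        Nat.card_coe_set_eq, Nat.card_coe_set_eq, Set.ncard_inter_add_ncard_sdiff_eq_ncard]
    have h4 : 3 ^ (m - 1) ∣ Nat.card Cl := by
      rw [hsplit, hS, hDcard]
      refine dvd_add ?_ hout
      obtain ⟨k, hk⟩ := h3
      refine ⟨k, ?_⟩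
      rw [hk, show m - 1 = m - 2 + 1 by omega, pow_succ]
      ring
    have hC9' : 9 ∣ Nat.card ↥(centralizer ({w} : Set G)) := hC9 ▸ Subgroup.card_dvd_of_le inf_le_right
    have h5 : 3 ^ (m + 1) ∣ Nat.card G := by
      rw [← hCl, show 3 ^ (m + 1) = 3 ^ (m - 1) * 9 by
        rw [show (9 : ℕ) = 3 ^ 2 by norm_num, ← pow_add]; congr 1; omega]
      exact Nat.mul_dvd_mul h4 hC9'
    have h6 := P.pow_dvd_card_of_pow_dvd_card h5
    rw [hm] at h6
    exact absurd (Nat.le_of_dvd (by positivity) h6) (not_le.2 (Nat.pow_lt_pow_right (by norm_num) (by omega)))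
  -- the product over `J` is nontrivial
  have hprod : J.prod id ≠ 1 := by
    haveI : Nontrivial (p ⧸ D) := Finite.one_lt_card_iff_nontrivial.1 (by omega)
    obtain ⟨u, hu⟩ := exists_ne (1 : p ⧸ D)
    have hord : ∀ a : p ⧸ D, a ≠ 1 → orderOf a = 3 := fun a ha => orderOf_eq_prime (hexp a) ha
    obtain ⟨v, hv⟩ : ∃ v, v ∉ zpowers u := by
      by_contra hall
      push Not at hall
      have := Subgroup.card_le_of_le (show (⊤ : Subgroup (p ⧸ D)) ≤ zpowers u from fun x _ => hall x)
      rw [Subgroup.card_top, hA9, Nat.card_zpowers, hord u hu] at this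
      omega
    have hv1 : v ≠ 1 := fun e => hv (e ▸ one_mem _)
    let φ : Multiplicative (ZMod 3 × ZMod 3) →* p ⧸ D := MonoidHom.mk'
      (fun q => v ^ (q.toAdd.1.val) * u ^ (q.toAdd.2.val)) fun q r => by
        rw [toAdd_mul, Prod.fst_add, Prod.snd_add, ZMod.val_add, ZMod.val_add,
          ← pow_eq_pow_mod _ (hexp v), ← pow_eq_pow_mod _ (hexp u), pow_add, pow_add,
          mul_mul_mul_comm]
    have hφ : Function.Surjective φ := by
      intro a
      have hmem : a ∈ zpowers v ⊔ zpowers u := by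
        rw [show zpowers v ⊔ zpowers u = ⊤ from eq_top_of_card_eq _
          (by rw [card_sup_three (hord v hv1) (hord u hu) (Commute.all v u) hv, hA9])]
        exact mem_top a
      obtain ⟨i, j, rfl⟩ := mem_sup_three (hord v hv1) (hord u hu) (Commute.all v u) hmem
      refine ⟨Multiplicative.ofAdd (((i : ℕ) : ZMod 3), ((j : ℕ) : ZMod 3)), ?_⟩
      show v ^ _ * u ^ _ = _
      simp only [toAdd_ofAdd, ZMod.val_natCast_of_lt i.2, ZMod.val_natCast_of_lt j.2]
    have hbij : Function.Bijective φ := hφ.bijective_of_nat_card_le (le_of_eq (by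
      rw [hA9, Nat.card_congr Multiplicative.toAdd, Nat.card_prod, Nat.card_zmod]))
    let e := (MulEquiv.ofBijective φ hbij).symm
    let J' : Finset (ZMod 3 × ZMod 3) := J.map (e.toEquiv.trans Multiplicative.toAdd).toEmbedding
    have hmem : ∀ x, x ∈ J' ↔ φ (Multiplicative.ofAdd x) ∈ J := fun x => by
      rw [Finset.mem_map_equiv]
      rfl
    intro h1
    refine sum_ne_zero J' ?_ ?_ (by rwa [Finset.card_map]) ?_
    · rw [hmem, ofAdd_zero, map_one]; exact hJ1
    · intro x hx hx'
      rw [hmem] at hx hx'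
      rw [ofAdd_neg, map_inv] at hx'
      exact hJinv _ hx hx'
    · rw [Finset.sum_map]
      show J.sum (fun a => Multiplicative.toAdd (e a)) = 0
      rw [← toAdd_prod, ← map_prod, show J.prod (fun a => a) = 1 from h1, map_one, toAdd_one]
  -- transfer
  haveI := Fintype.ofFinite (G ⧸ p)
  let f : G → p ⧸ D := fun x => if hx : x ∈ p then π ⟨x, hx⟩ else 1
  have ht := hom_eq_one hperf (MonoidHom.transfer π) w
  rw [CfsgLib.Sporadic.J3Type.transfer_prime p π Nat.prime_three
    (by rw [← hw, pow_orderOf_eq_one]) f fun g h => dif_pos h] at ht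
  set X := Finset.univ.filter fun q : G ⧸ p => w • q = q with hX
  have hXmem : ∀ q, q ∈ X ↔ q.out⁻¹ * w * q.out ∈ p := fun q => by
    rw [hX, Finset.mem_filter, and_iff_right (Finset.mem_univ _)]
    conv_lhs => rw [← Quotient.out_eq q]
    show ((w * q.out : G) : G ⧸ p) = (q.out : G ⧸ p) ↔ _
    rw [eq_comm, QuotientGroup.eq, mul_assoc]
  have himg : ∀ q ∈ X, f (q.out⁻¹ * w * q.out) ∈ J := fun q hq => by
    show (if hx : q.out⁻¹ * w * q.out ∈ p then π ⟨_, hx⟩ else 1) ∈ J
    rw [dif_pos ((hXmem q).1 hq)]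
    exact Finset.mem_filter.2 ⟨Finset.mem_univ _, _, isConj_iff.2 ⟨q.out⁻¹, by rw [inv_inv]⟩, rfl⟩
  obtain ⟨k, hk⟩ : 9 ∣ Nat.card ↥(centralizer ({w} : Set G)) :=
    hC9 ▸ Subgroup.card_dvd_of_le inf_le_right
  have hk3 : ¬ 3 ∣ k := fun ⟨l, hl⟩ => h27 ⟨l, by rw [hk, hl]; ring⟩
  have hfib : ∀ a ∈ J, (X.filter fun q => f (q.out⁻¹ * w * q.out) = a).card = k := by
    intro a ha
    obtain ⟨x, hx, rfl⟩ := (Finset.mem_filter.1 ha).2
    obtain ⟨g₀, hg₀⟩ := isConj_iff.1 hx
    set q₀ : G ⧸ p := ((g₀⁻¹ : G) : G ⧸ p)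
    letI : MulAction (centralizer ({w} : Set G)) (G ⧸ p) :=
      MulAction.compHom _ (centralizer ({w} : Set G)).subtype
    have hset : (↑(X.filter fun q => f (q.out⁻¹ * w * q.out) = π x) : Set (G ⧸ p)) =
        orbit (centralizer ({w} : Set G)) q₀ := by
      ext q
      simp only [Finset.coe_filter, Set.mem_setOf_eq]
      constructor
      · rintro ⟨hq, hfq⟩
        have hmem := (hXmem q).1 hq
        simp only [f, dif_pos hmem] at hfq
        obtain ⟨r, hr⟩ := (hclass x hx).2 ⟨_, hmem⟩ (QuotientGroup.eq.1 hfq.symm)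
        have hr' : (r : G) * x * (r : G)⁻¹ = q.out⁻¹ * w * q.out := congrArg Subtype.val hr
        refine ⟨⟨q.out * r * g₀, mem_centralizer_singleton_iff.2 ?_⟩, ?_⟩
        · calc q.out * (r : G) * g₀ * w
              = q.out * ((r : G) * (g₀ * w * g₀⁻¹) * (r : G)⁻¹) * (r : G) * g₀ := by group
            _ = w * (q.out * r * g₀) := by rw [hg₀, hr']; group
        · show ((q.out * (r : G) * g₀ * g₀⁻¹ : G) : G ⧸ p) = q
          conv_rhs => rw [← QuotientGroup.out_eq' q]
          rw [QuotientGroup.eq, show (q.out * (r : G) * g₀ * g₀⁻¹)⁻¹ * q.out = (r : G)⁻¹ by group]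
          exact inv_mem r.2
      · rintro ⟨⟨c, hc⟩, rfl⟩
        set q : G ⧸ p := ((c * g₀⁻¹ : G) : G ⧸ p) with hq
        show q ∈ X ∧ f (q.out⁻¹ * w * q.out) = π x
        set r : G := (c * g₀⁻¹)⁻¹ * q.out with hr
        have hrp : r ∈ p := QuotientGroup.eq.1 (QuotientGroup.out_eq' q).symm
        have hval : q.out⁻¹ * w * q.out = r⁻¹ * x * r := by
          have e : q.out = c * g₀⁻¹ * r := by rw [hr]; group
          rw [e, show (c * g₀⁻¹ * r)⁻¹ * w * (c * g₀⁻¹ * r) = r⁻¹ * (g₀ * (c⁻¹ * (w * c)) * g₀⁻¹) * r by group,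
            ← mem_centralizer_singleton_iff.1 hc, inv_mul_cancel_left, hg₀]
        have hmem : q.out⁻¹ * w * q.out ∈ p := hval ▸ mul_mem (mul_mem (inv_mem hrp) x.2) hrp
        refine ⟨(hXmem q).2 hmem, ?_⟩
        simp only [f, dif_pos hmem]
        rw [show (⟨_, hmem⟩ : p) = (⟨r, hrp⟩ : p)⁻¹ * x * ⟨r, hrp⟩ from Subtype.ext hval, map_mul,
          map_mul, map_inv, mul_comm (π ⟨r, hrp⟩)⁻¹, inv_mul_cancel_right]
    rw [← Set.ncard_coe_finset, hset, ← index_stabilizer]
    have h1 := (stabilizer (centralizer ({w} : Set G)) q₀).card_mul_index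
    have hstab : Nat.card ↥(stabilizer (centralizer ({w} : Set G)) q₀) = 9 := by
      rw [← hcent x hx]
      have hin : ∀ c : centralizer ({w} : Set G), c ∈ stabilizer (centralizer ({w} : Set G)) q₀ ↔
          g₀ * c * g₀⁻¹ ∈ p := fun c => by
        rw [mem_stabilizer_iff]
        show (((c : G) * g₀⁻¹ : G) : G ⧸ p) = ((g₀⁻¹ : G) : G ⧸ p) ↔ _
        rw [eq_comm, QuotientGroup.eq, inv_inv, mul_assoc]
      exact Nat.card_congr
        { toFun := fun c => ⟨⟨_, (hin c).1 c.2⟩, mem_centralizer_singleton_iff.2 (Subtype.ext (by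
            show g₀ * (c : G) * g₀⁻¹ * x = x * (g₀ * (c : G) * g₀⁻¹)
            rw [← hg₀]
            calc g₀ * (c : G) * g₀⁻¹ * (g₀ * w * g₀⁻¹) = g₀ * ((c : G) * w) * g₀⁻¹ := by group
              _ = g₀ * w * g₀⁻¹ * (g₀ * (c : G) * g₀⁻¹) := by
                rw [mem_centralizer_singleton_iff.1 (c : centralizer ({w} : Set G)).2]; group))⟩
          invFun := fun d => ⟨⟨g₀⁻¹ * ((d : p) : G) * g₀, mem_centralizer_singleton_iff.2 (by
            have h2 : ((d : p) : G) * x = x * (d : p) :=
              congrArg Subtype.val (mem_centralizer_singleton_iff.1 d.2)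
            rw [← hg₀] at h2
            calc g₀⁻¹ * ((d : p) : G) * g₀ * w = g₀⁻¹ * (((d : p) : G) * (g₀ * w * g₀⁻¹)) * g₀ := by group
              _ = w * (g₀⁻¹ * ((d : p) : G) * g₀) := by rw [h2]; group)⟩, (hin _).2 (by
            rw [show g₀ * (g₀⁻¹ * ((d : p) : G) * g₀) * g₀⁻¹ = ((d : p) : G) by group]
            exact (d : p).2)⟩
          left_inv := fun c => Subtype.ext (Subtype.ext (by simp [mul_assoc]))
          right_inv := fun d => Subtype.ext (Subtype.ext (by simp [mul_assoc])) }
    rw [hstab, hk] at h1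
    omega
  rw [← Finset.prod_fiberwise_of_maps_to (t := J) (g := fun q => f (q.out⁻¹ * w * q.out)) himg,
    Finset.prod_congr rfl fun a _ => (Finset.prod_congr rfl fun q hq => (Finset.mem_filter.1 hq).2)] at ht
  simp only [Finset.prod_const] at ht
  rw [Finset.prod_congr rfl fun a ha => (show a ^ (X.filter fun q => f (q.out⁻¹ * w * q.out) = a).card = a ^ k by
    rw [hfib a ha]), Finset.prod_pow] at ht
  refine hprod ?_
  have h3 : orderOf (J.prod id) ∣ Nat.gcd k 3 :=
    Nat.dvd_gcd (orderOf_dvd_of_pow_eq_one ht) (orderOf_dvd_of_pow_eq_one (hexp _))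
  rw [Nat.Coprime.gcd_eq_one ((Nat.prime_three.coprime_iff_not_dvd.2 hk3).symm)] at h3
  exact orderOf_eq_one_iff.1 (Nat.dvd_one.1 h3)

end CfsgLib.Perm.FixityFour.OddPart
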